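import Cfsg.Agent.Lib.Helper12.TCG.WPres
import Cfsg.Agent.Lib.Helper12.TC.Fn.Main

/-!
Permutation representations of groups presented by word lists, from a table of the images of the points under the
letters; the letters need not be involutions, the inverse of a letter is the letter given by a function (helper12).
-/

set_option autoImplicit false

namespace Cfsg.Agent.Lib.Helper12.M23Ext.TabPerm

open Cfsg.Agent.Lib.Helper12.TC Cfsg.Agent.Lib.Helper12.TC.Fn Cfsg.Agent.Lib.Helper12.TCG

/-- the columns `x < g` of the table are bijections of `[0, N)`, the column `iv x` being the inverse of the column `x` -/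
def permIK (TT : ℕ → ℕ → ℕ) (iv : ℕ → ℕ) (g N : ℕ) : Bool :=
  allBelowK g (fun x => Nat.blt (iv x) g && allBelowK N (fun i =>
    Nat.blt (TT x i) N && (Nat.beq (TT (iv x) (TT x i)) i && Nat.beq (TT x (TT (iv x) i)) i)))

variable {TT : ℕ → ℕ → ℕ} {iv : ℕ → ℕ} {g N : ℕ}

theorem permIK_iv (h : permIK TT iv g N = true) {x : ℕ} (hx : x < g) : iv x < g := by
  have h1 := (allBelowK_iff g _).mp h x hx
  rw [Bool.and_eq_true] at h1
  exact Nat.le_of_ble_eq_true h1.1

theorem permIK_spec (h : permIK TT iv g N = true) {x i : ℕ} (hx : x < g) (hi : i < N) :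
    TT x i < N ∧ TT (iv x) (TT x i) = i ∧ TT x (TT (iv x) i) = i := by
  have h1 := (allBelowK_iff g _).mp h x hx
  rw [Bool.and_eq_true] at h1
  have h2 := (allBelowK_iff N _).mp h1.2 i hi
  rw [Bool.and_eq_true, Bool.and_eq_true] at h2
  exact ⟨Nat.le_of_ble_eq_true h2.1, Nat.eq_of_beq_eq_true h2.2.1, Nat.eq_of_beq_eq_true h2.2.2⟩

/-- the permutation of the points given by the column `x` of the table -/
noncomputable def pI (h : permIK TT iv g N = true) (x : ℕ) : Equiv.Perm (Fin N) :=
  if hx : x < g then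
    { toFun := fun i => ⟨TT x i.val, (permIK_spec h hx i.isLt).1⟩
      invFun := fun i => ⟨TT (iv x) i.val, (permIK_spec h (permIK_iv h hx) i.isLt).1⟩
      left_inv := fun i => Fin.ext (permIK_spec h hx i.isLt).2.1
      right_inv := fun i => Fin.ext (permIK_spec h hx i.isLt).2.2 }
  else 1

theorem pI_apply (h : permIK TT iv g N = true) {x : ℕ} (hx : x < g) (i : Fin N) :
    ((pI h x i : Fin N) : ℕ) = TT x i.val := by
  rw [pI, dif_pos hx]; rfl

/-- the meaning of the check of the relators -/
theorem relsK_spec {rels : List (List ℕ)} (h : relsK TT N rels = true) :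
    ∀ b ∈ rels, ∀ i < N, applyW TT b i = i := by
  intro b hb i hi
  have h1 := (allListK_iff rels _).mp h b hb
  exact Nat.eq_of_beq_eq_true ((allBelowK_iff N _).mp h1 i hi)

/-- a table whose columns are bijections and which satisfies the relators gives a permutation representation -/
theorem hom_of_table (baseL : List (List ℕ)) (hlet : lettersK g baseL = true)
    (hperm : permIK TT iv g N = true) (hrels : ∀ b ∈ baseL, ∀ i < N, applyW TT b i = i) :
    ∃ ρ : WPres.Grp g baseL →* Equiv.Perm (Fin N),
      ∀ x < g, ∀ i : Fin N, ((ρ (WPres.v g baseL x) i : Fin N) : ℕ) = TT x i.val := by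
  have hw : ∀ b ∈ baseL, wprod (pI hperm) b = 1 := by
    intro b hb
    apply Equiv.ext
    intro i
    apply Fin.ext
    rw [perm_word (pI hperm) (fun x hx i => pI_apply hperm hx i) b
      (fun s hs => lettersK_lt hlet hb hs) i, Equiv.Perm.one_apply]
    exact hrels b hb i.val i.isLt
  obtain ⟨ρ, hρ⟩ := WPres.hlift g baseL hlet (pI hperm) hw
  refine ⟨ρ, fun x hx i => ?_⟩
  rw [hρ x hx]
  exact pI_apply hperm hx i

/-- the image of a word under a representation given by a table -/
theorem hom_word {K : Type*} [Group K] (v : ℕ → K) (ρ : K →* Equiv.Perm (Fin N))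
    (hρ : ∀ x < g, ∀ i : Fin N, ((ρ (v x) i : Fin N) : ℕ) = TT x i.val)
    (l : List ℕ) (hl : ∀ s ∈ l, s < g) (i : Fin N) :
    ((ρ (wprod v l) i : Fin N) : ℕ) = applyW TT l i.val := by
  have h1 : ρ (wprod v l) = wprod (fun s => ρ (v s)) l := (WPres.wprod_map ρ v l).symm
  rw [h1]
  exact perm_word (fun s => ρ (v s)) hρ l hl i

end Cfsg.Agent.Lib.Helper12.M23Ext.TabPerm
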