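import Cfsg.Agent.Lib.Helper12.TCG.WPres

/-!
The presentation of an extension of the group of Mathieu of degree `23` by an elementary abelian group of order `2 ^ 11`:
the letters `0, ..., 4` are lifts of the letters of the presentation of the group of Mathieu, the letters `5 + t`,
`t < 23`, are commuting involutions permuted by them (generated, helper12).
-/

set_option autoImplicit false
set_option maxRecDepth 100000

namespace Cfsg.Agent.Lib.Helper12.M23Ext.EPres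

open Cfsg.Agent.Lib.Helper12.TC Cfsg.Agent.Lib.Helper12.TCG

/-- the lifted relators of the group of Mathieu -/
def relsE : List (List ℕ) :=
  [[1, 1, 1, 1],
   [0, 1, 0, 1, 0, 1, 0, 1, 0, 1, 0, 1, 0, 1, 0, 1, 0, 1, 0, 1, 0, 1, 0, 1, 0, 1, 0, 1, 0, 1, 0, 1, 0, 1, 0, 1, 0, 1, 0, 1, 0, 1, 0, 1, 0, 1],
   [3, 3, 3, 3, 3, 3, 3, 3, 3, 3, 3],
   [3, 0, 1, 4, 0, 1, 0, 1, 0, 1, 0, 1, 0, 1, 0, 1, 0, 1, 8, 13, 17],
   [4, 0, 1, 1, 0, 1, 1, 0, 2, 0, 2, 0, 1, 1, 0, 2, 0, 1, 1, 0, 1, 0, 2, 0, 1, 0, 1, 1],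
   [0, 1, 1, 0, 1, 1, 0, 1, 1, 0, 1, 1, 0, 1, 1, 0, 1, 1, 9, 10],
   [0, 2, 0, 1, 0, 2, 0, 1, 0, 2, 0, 1, 0, 2, 0, 1, 0, 2, 0, 1, 0, 2, 0, 1, 18, 20],
   [0, 1, 0, 2, 0, 1, 1, 0, 1, 0, 2, 0, 1, 1, 0, 1, 0, 2, 0, 1, 1, 0, 1, 0, 2, 0, 1, 1, 17, 19, 21],
   [0, 1, 0, 1, 0, 1, 0, 2, 0, 1, 1, 0, 1, 0, 2, 0, 1, 0, 2, 0, 1, 0, 1, 0, 1, 0, 2, 0, 2, 0, 2, 8, 10, 14],
   [0, 1, 0, 1, 1, 0, 1, 0, 1, 1, 0, 1, 0, 1, 1, 0, 1, 1, 0, 2, 0, 1, 1, 0, 2, 0, 1, 0, 1, 1, 0, 1, 0, 2, 0, 1, 1, 12, 20, 25]]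

/-- the letters with their inverses -/
def pairsE : List (List ℕ) := [[0, 0],
 [1, 2],
 [2, 1],
 [3, 4],
 [4, 3]]

/-- the squares of the involutions -/
def dsqE : List (List ℕ) := (List.range 23).map fun t => [5 + t, 5 + t]

/-- the commutators of the involutions -/
def commE : List (List ℕ) :=
  (List.range 23).flatMap fun s => (List.range 23).map fun t => [5 + s, 5 + t, 5 + s, 5 + t]

/-- the action of the first five letters on the involutions -/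
def sgL : List (List ℕ) :=
  [[1, 0, 9, 6, 5, 4, 3, 7, 8, 2, 10, 22, 14, 13, 12, 15, 21, 17, 19, 18, 20, 16, 11],
   [11, 1, 0, 9, 6, 5, 4, 3, 7, 8, 2, 10, 22, 14, 13, 12, 15, 21, 17, 19, 18, 20, 16],
   [2, 1, 10, 7, 6, 5, 4, 8, 9, 3, 11, 0, 15, 14, 13, 16, 22, 18, 20, 19, 21, 17, 12],
   [0, 16, 9, 2, 18, 11, 4, 20, 13, 6, 22, 15, 8, 1, 17, 10, 3, 19, 12, 5, 21, 14, 7],
   [0, 13, 3, 16, 6, 19, 9, 22, 12, 2, 15, 5, 18, 8, 21, 11, 1, 14, 4, 17, 7, 20, 10]]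

/-- the action of the first five letters on the involutions -/
def sg (x t : ℕ) : ℕ := (sgL.getD x []).getD t 0

/-- the inverse letters -/
def ivL : List ℕ := [0, 2, 1, 4, 3]

/-- the inverse letters -/
def iv (x : ℕ) : ℕ := ivL.getD x x

/-- the conjugation relators -/
def conjE : List (List ℕ) :=
  (List.range 5).flatMap fun x => (List.range 23).map fun t => [x, 5 + t, iv x, 5 + sg x t]

/-- the relators of the code -/
def golE : List (List ℕ) :=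
  [[5, 17, 19, 21, 22, 23, 27],
   [6, 17, 18, 19, 20, 21, 24, 27],
   [7, 17, 18, 20, 23, 25, 27],
   [8, 17, 18, 22, 23, 24, 26, 27],
   [9, 17, 18, 21, 22, 24, 25],
   [10, 18, 19, 22, 23, 25, 26],
   [11, 19, 20, 23, 24, 26, 27],
   [12, 17, 19, 20, 22, 23, 24, 25],
   [13, 18, 20, 21, 23, 24, 25, 26],
   [14, 19, 21, 22, 24, 25, 26, 27],
   [15, 17, 19, 20, 21, 25, 26],
   [16, 18, 20, 21, 22, 26, 27]]

/-- the base words -/
def baseL : List (List ℕ) := relsE ++ (pairsE ++ (dsqE ++ (commE ++ (conjE ++ (golE ++ [[]])))))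

/-- the presented group -/
abbrev Grp : Type := WPres.Grp 28 baseL

/-- the letters as elements of the presented group -/
def v : ℕ → Grp := WPres.v 28 baseL

theorem hlet : lettersK 28 baseL = true := by decide +kernel

theorem hbase : ∀ b ∈ baseL, wprod v b = 1 := WPres.hbase 28 baseL

theorem hgen : ∀ γ : Grp, γ ∈ Subgroup.closure {y | ∃ x < 28, y = v x} := WPres.hgen 28 baseL

/-- the universal property -/
theorem hliftG {K : Type*} [Group K] (f : ℕ → K) (hw : ∀ b ∈ baseL, wprod f b = 1) :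
    ∃ ρ : Grp →* K, ∀ x < 28, ρ (v x) = f x :=
  WPres.hlift 28 baseL hlet f hw

end Cfsg.Agent.Lib.Helper12.M23Ext.EPres
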