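import Cfsg.Agent.Lib.Helper12.M23Ext.EPres

/-!
The relations of the presented extension: the involutions commute, the first five letters permute them; the subgroup
generated by the involutions is normal (helper12).
-/

set_option autoImplicit false
set_option maxRecDepth 100000

namespace Cfsg.Agent.Lib.Helper12.M23Ext.ERel

open Cfsg.Agent.Lib.Helper12.TC Cfsg.Agent.Lib.Helper12.TCG Cfsg.Agent.Lib.Helper12.M23Ext
  Cfsg.Agent.Lib.Helper12.M23Ext.EPres

theorem mem_base_pairs {b : List ℕ} (h : b ∈ pairsE) : b ∈ baseL :=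
  List.mem_append_right _ (List.mem_append_left _ h)

theorem mem_base_dsq {b : List ℕ} (h : b ∈ dsqE) : b ∈ baseL :=
  List.mem_append_right _ (List.mem_append_right _ (List.mem_append_left _ h))

theorem mem_base_comm {b : List ℕ} (h : b ∈ commE) : b ∈ baseL :=
  List.mem_append_right _ (List.mem_append_right _ (List.mem_append_right _ (List.mem_append_left _ h)))

theorem mem_base_conj {b : List ℕ} (h : b ∈ conjE) : b ∈ baseL :=
  List.mem_append_right _ (List.mem_append_right _ (List.mem_append_right _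
    (List.mem_append_right _ (List.mem_append_left _ h))))

theorem mem_base_gol {b : List ℕ} (h : b ∈ golE) : b ∈ baseL :=
  List.mem_append_right _ (List.mem_append_right _ (List.mem_append_right _
    (List.mem_append_right _ (List.mem_append_right _ (List.mem_append_left _ h)))))

theorem mem_base_rels {b : List ℕ} (h : b ∈ relsE) : b ∈ baseL := List.mem_append_left _ h

/-- the squares of the involutions -/
theorem d_sq {t : ℕ} (ht : t < 23) : v (5 + t) * v (5 + t) = 1 := by
  have h := hbase [5 + t, 5 + t] (mem_base_dsq (List.mem_map.mpr ⟨t, List.mem_range.mpr ht, rfl⟩))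
  rwa [wprod_cons, wprod_cons, wprod_nil, mul_one] at h

theorem d_inv {t : ℕ} (ht : t < 23) : (v (5 + t))⁻¹ = v (5 + t) :=
  inv_eq_of_mul_eq_one_right (d_sq ht)

/-- the involutions commute -/
theorem d_comm {s t : ℕ} (hs : s < 23) (ht : t < 23) : v (5 + s) * v (5 + t) = v (5 + t) * v (5 + s) := by
  have h := hbase [5 + s, 5 + t, 5 + s, 5 + t] (mem_base_comm (List.mem_flatMap.mpr
    ⟨s, List.mem_range.mpr hs, List.mem_map.mpr ⟨t, List.mem_range.mpr ht, rfl⟩⟩))
  rw [wprod_cons, wprod_cons, wprod_cons, wprod_cons, wprod_nil, mul_one] at h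
  have h1 : v (5 + s) * v (5 + t) = (v (5 + s) * v (5 + t))⁻¹ := by
    apply eq_inv_of_mul_eq_one_left
    rw [mul_assoc]
    exact h
  rw [h1, mul_inv_rev, d_inv hs, d_inv ht]

theorem iv_lt : ∀ x < 5, iv x < 5 := by decide

theorem iv_iv : ∀ x < 5, iv (iv x) = x := by decide

theorem sg_lt : ∀ x < 5, ∀ t < 23, sg x t < 23 := by decide

theorem sg_iv : ∀ x < 5, ∀ t < 23, sg (iv x) (sg x t) = t := by decide

/-- the inverse letters -/
theorem v_iv {x : ℕ} (hx : x < 5) : v (iv x) = (v x)⁻¹ := by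
  have hm : ∀ x < 5, [x, iv x] ∈ pairsE := by decide
  have h := hbase [x, iv x] (mem_base_pairs (hm x hx))
  rw [wprod_cons, wprod_cons, wprod_nil, mul_one] at h
  exact (inv_eq_of_mul_eq_one_right h).symm

/-- the first five letters permute the involutions -/
theorem conj_letter {x t : ℕ} (hx : x < 5) (ht : t < 23) :
    v x * v (5 + t) * (v x)⁻¹ = v (5 + sg x t) := by
  have h := hbase [x, 5 + t, iv x, 5 + sg x t] (mem_base_conj (List.mem_flatMap.mpr
    ⟨x, List.mem_range.mpr hx, List.mem_map.mpr ⟨t, List.mem_range.mpr ht, rfl⟩⟩))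
  rw [wprod_cons, wprod_cons, wprod_cons, wprod_cons, wprod_nil, mul_one, v_iv hx] at h
  have h1 : v x * v (5 + t) * (v x)⁻¹ = (v (5 + sg x t))⁻¹ := by
    apply eq_inv_of_mul_eq_one_left
    rw [mul_assoc, mul_assoc]
    exact h
  rw [h1, d_inv (sg_lt x hx t ht)]

/-- the set of the involutions -/
def dset : Set Grp := {y | ∃ t < 23, y = v (5 + t)}

/-- the subgroup generated by the involutions -/
noncomputable def D : Subgroup Grp := Subgroup.closure dset

theorem d_mem {t : ℕ} (ht : t < 23) : v (5 + t) ∈ D := Subgroup.subset_closure ⟨t, ht, rfl⟩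

theorem letter_ge_mem {x : ℕ} (h5 : 5 ≤ x) (hx : x < 28) : v x ∈ D := by
  have : x = 5 + (x - 5) := by omega
  rw [this]
  exact d_mem (by omega)

theorem conj_letter_mem {x : ℕ} (hx : x < 5) : ∀ d ∈ D, v x * d * (v x)⁻¹ ∈ D := by
  intro d hd
  have h1 : D.map (MulAut.conj (v x)).toMonoidHom ≤ D := by
    unfold D
    rw [MonoidHom.map_closure, Subgroup.closure_le]
    rintro _ ⟨_, ⟨t, ht, rfl⟩, rfl⟩
    show v x * v (5 + t) * (v x)⁻¹ ∈ Subgroup.closure dset
    rw [conj_letter hx ht]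
    exact d_mem (sg_lt x hx t ht)
  exact h1 ⟨d, hd, rfl⟩

theorem conj_gen_mem {x : ℕ} (hx : x < 28) :
    (∀ d ∈ D, v x * d * (v x)⁻¹ ∈ D) ∧ (∀ d ∈ D, (v x)⁻¹ * d * v x ∈ D) := by
  by_cases h5 : x < 5
  · refine ⟨conj_letter_mem h5, fun d hd => ?_⟩
    have h := conj_letter_mem (iv_lt x h5) d hd
    rwa [v_iv h5, inv_inv] at h
  · have hm := letter_ge_mem (by omega) hx
    exact ⟨fun d hd => D.mul_mem (D.mul_mem hm hd) (D.inv_mem hm),
      fun d hd => D.mul_mem (D.mul_mem (D.inv_mem hm) hd) hm⟩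

theorem conj_mem (γ : Grp) : (∀ d ∈ D, γ * d * γ⁻¹ ∈ D) ∧ (∀ d ∈ D, γ⁻¹ * d * γ ∈ D) := by
  refine Subgroup.closure_induction (p := fun γ _ => (∀ d ∈ D, γ * d * γ⁻¹ ∈ D) ∧ (∀ d ∈ D, γ⁻¹ * d * γ ∈ D))
    ?_ ?_ ?_ ?_ (hgen γ)
  · rintro y ⟨x, hx, rfl⟩
    exact conj_gen_mem hx
  · exact ⟨fun d hd => by simpa using hd, fun d hd => by simpa using hd⟩
  · intro a b _ _ ha hb
    refine ⟨fun d hd => ?_, fun d hd => ?_⟩
    · have := ha.1 _ (hb.1 d hd)
      have e : a * b * d * (a * b)⁻¹ = a * (b * d * b⁻¹) * a⁻¹ := by group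
      rw [e]; exact this
    · have := hb.2 _ (ha.2 d hd)
      have e : (a * b)⁻¹ * d * (a * b) = b⁻¹ * (a⁻¹ * d * a) * b := by group
      rw [e]; exact this
  · intro a _ ha
    exact ⟨fun d hd => by simpa using ha.2 d hd, fun d hd => by simpa using ha.1 d hd⟩

instance D_normal : D.Normal := ⟨fun d hd γ => (conj_mem γ).1 d hd⟩

end Cfsg.Agent.Lib.Helper12.M23Ext.ERel
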