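import Cfsg.Agent.Lib.Helper12.M23Ext.Theta1

/-!
The map from the binary words to the presented extension: its image is the subgroup generated by the involutions, and
it carries the permutations of the coordinates to the conjugations which permute the involutions in the same way
(helper12).
-/

set_option autoImplicit false
set_option maxRecDepth 100000

namespace Cfsg.Agent.Lib.Helper12.M23Ext.Theta

open Cfsg Cfsg.Agent.Lib.Helper12.Golay Cfsg.Agent.Lib.Helper12.TC Cfsg.Agent.Lib.Helper12.TCG
  Cfsg.Agent.Lib.Helper12.M23Ext Cfsg.Agent.Lib.Helper12.M23Ext.EPres Cfsg.Agent.Lib.Helper12.M23Ext.ERel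

theorem dletters_pow : ∀ t < 23, dletters (2 ^ t) = [5 + t] := by decide

/-- the involutions are images -/
theorem theta0_wd_pow {t : ℕ} (ht : t < 23) : theta0 (wd (2 ^ t)) = v (5 + t) := by
  rw [theta0_wd, dletters_pow t ht, wprod_cons, wprod_nil, mul_one]

theorem add_self_word (w : GolayPt → ZMod 2) : w + w = 0 := by
  funext p
  rcases zmod2_cases (w p) with h | h
  · rw [Pi.add_apply, h]; rfl
  · rw [Pi.add_apply, h]
    exact (by decide : (1 : ZMod 2) + 1 = 0)

theorem theta0_inv (w : GolayPt → ZMod 2) : (theta0 w)⁻¹ = theta0 w := by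
  apply inv_eq_of_mul_eq_one_right
  rw [← theta0_add, add_self_word, theta0_zero]

/-- the image of the map is the subgroup generated by the involutions -/
theorem theta0_surj : ∀ d ∈ D, ∃ w : GolayPt → ZMod 2, theta0 w = d := by
  intro d hd
  refine Subgroup.closure_induction (p := fun d _ => ∃ w : GolayPt → ZMod 2, theta0 w = d) ?_ ?_ ?_ ?_ hd
  · rintro y ⟨t, ht, rfl⟩
    exact ⟨wd (2 ^ t), theta0_wd_pow ht⟩
  · exact ⟨0, theta0_zero⟩
  · rintro a b _ _ ⟨wa, rfl⟩ ⟨wb, rfl⟩
    exact ⟨wa + wb, theta0_add wa wb⟩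
  · rintro a _ ⟨wa, rfl⟩
    exact ⟨wa, (theta0_inv wa).symm⟩

theorem conj_dpow (g d : Grp) (a : ZMod 2) : g * dpow d a * g⁻¹ = dpow (g * d * g⁻¹) a := by
  unfold dpow
  split_ifs
  · rw [mul_one, mul_inv_cancel]
  · rfl

theorem pts_map_perm (σ : Equiv.Perm GolayPt) : (pts.map σ).Perm pts := by
  rw [List.perm_ext_iff_of_nodup (pts_nodup.map σ.injective) pts_nodup]
  intro p
  constructor
  · intro _
    exact mem_pts p
  · intro _
    exact List.mem_map.mpr ⟨σ⁻¹ p, mem_pts _, by simp⟩

/-- the map carries a permutation of the coordinates to the conjugation which permutes the involutions in the same way -/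
theorem theta0_conj_of (g : Grp) (σ : Equiv.Perm GolayPt) (hg : ∀ p, g * dpt p * g⁻¹ = dpt (σ p))
    (w : GolayPt → ZMod 2) : theta0 (w ∘ ⇑σ⁻¹) = g * theta0 w * g⁻¹ := by
  have h1 : g * theta0 w * g⁻¹ = (pts.map fun p => dpow (dpt (σ p)) (w p)).prod := by
    unfold theta0
    have h := map_list_prod (MulAut.conj g).toMonoidHom (pts.map fun p => dpow (dpt p) (w p))
    have e : ∀ x : Grp, (MulAut.conj g).toMonoidHom x = g * x * g⁻¹ := fun x => rfl
    rw [e, List.map_map] at h
    rw [h]
    congr 1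
    apply List.map_congr_left
    intro p _
    show g * dpow (dpt p) (w p) * g⁻¹ = _
    rw [conj_dpow, hg]
  have h2 : (pts.map fun p => dpow (dpt (σ p)) (w p)) =
      (pts.map σ).map fun q => dpow (dpt q) ((w ∘ ⇑σ⁻¹) q) := by
    rw [List.map_map]
    apply List.map_congr_left
    intro p _
    show _ = dpow (dpt (σ p)) (w (σ⁻¹ (σ p)))
    rw [Equiv.Perm.inv_eq_iff_eq.mpr rfl]
  rw [h1, h2]
  unfold theta0
  symm
  apply List.Perm.prod_eq'
  · exact (pts_map_perm σ).map _
  · rw [List.pairwise_map]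
    exact List.pairwise_of_forall fun a b => dpow_comm (dpt_comm a b) _ _

end Cfsg.Agent.Lib.Helper12.M23Ext.Theta
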