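import Cfsg.Agent.Lib.Helper12.M23Ext.Psi
import Cfsg.Agent.Lib.Helper12.M23Ext.Theta3

/-!
The elements of the presented extension permute the involutions as their images in the group of Mathieu permute the
points (helper12).
-/

set_option autoImplicit false
set_option maxRecDepth 100000

namespace Cfsg.Agent.Lib.Helper12.M23Ext.Equivar

open Cfsg Cfsg.Agent.Lib.helper4 Cfsg.Agent.Lib.Helper12.Golay Cfsg.Agent.Lib.Helper12.TC
  Cfsg.Agent.Lib.Helper12.TCG Cfsg.Agent.Lib.Helper12.M23Ext Cfsg.Agent.Lib.Helper12.M23Ext.EPres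
  Cfsg.Agent.Lib.Helper12.M23Ext.ERel Cfsg.Agent.Lib.Helper12.M23Ext.Psi Cfsg.Agent.Lib.Helper12.M23Ext.Theta

theorem ts_sg : ∀ x < 5, (∀ t < 23, (ts x).getD t 0 = sg x t) ∧ (ts x).getD 23 0 = 23 := by decide

theorem fl_pt {x : ℕ} (i : ℕ) (hi : i < 24) : fl x (pt i) = pt ((ts x).getD i 0) := by
  unfold fl
  rw [fperm_apply (ts_valid x)]
  unfold tblFun
  rw [idx_pt hi]

/-- the first five letters -/
theorem conj_dpt_lt {x : ℕ} (hx : x < 5) (p : GolayPt) : v x * dpt p * (v x)⁻¹ = dpt (fl x p) := by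
  rw [← pt_idx p]
  have hi := idx_lt p
  generalize idx p = i at hi
  rw [fl_pt i hi]
  by_cases h23 : i < 23
  · rw [dpt_pt h23, conj_letter hx h23, (ts_sg x hx).1 i h23, dpt_pt (sg_lt x hx i h23)]
  · have e : i = 23 := by omega
    rw [e, (ts_sg x hx).2, dpt_pt_top, mul_one, mul_inv_cancel]

/-- the involutions -/
theorem conj_dpt_ge {x : ℕ} (h5 : 5 ≤ x) (hx : x < 28) (p : GolayPt) : v x * dpt p * (v x)⁻¹ = dpt p := by
  have e : x = 5 + (x - 5) := by omega
  have hs : x - 5 < 23 := by omega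
  rw [e]
  generalize x - 5 = s at hs
  cases p with
  | none => show v (5 + s) * 1 * (v (5 + s))⁻¹ = 1; rw [mul_one, mul_inv_cancel]
  | some t =>
    show v (5 + s) * v (5 + t.val) * (v (5 + s))⁻¹ = v (5 + t.val)
    rw [d_comm hs (ZMod.val_lt t), mul_assoc, mul_inv_cancel, mul_one]

/-- the elements of the extension permute the involutions as their images permute the points -/
theorem conj_dpt (g : Grp) : ∀ p : GolayPt, g * dpt p * g⁻¹ = dpt (psi g p) := by
  refine Subgroup.closure_induction (p := fun g _ => ∀ p : GolayPt, g * dpt p * g⁻¹ = dpt (psi g p))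
    ?_ ?_ ?_ ?_ (hgen g)
  · rintro y ⟨x, hx, rfl⟩ p
    rw [psi_letter x hx]
    by_cases h5 : x < 5
    · exact conj_dpt_lt h5 p
    · rw [fl_ge (by omega), Equiv.Perm.one_apply]
      exact conj_dpt_ge (by omega) hx p
  · intro p
    rw [map_one, Equiv.Perm.one_apply, one_mul, inv_one, mul_one]
  · intro a b _ _ ha hb p
    rw [map_mul, Equiv.Perm.mul_apply, ← ha, ← hb]
    group
  · intro a _ ha p
    have h := ha ((psi a)⁻¹ p)
    have e : (psi a) ((psi a)⁻¹ p) = p := (Equiv.eq_symm_apply (psi a)).mp rfl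
    rw [e] at h
    rw [map_inv, ← h]
    group

/-- the map from the binary words is equivariant -/
theorem theta0_conj (g : Grp) (w : GolayPt → ZMod 2) :
    theta0 (w ∘ ⇑(psi g)⁻¹) = g * theta0 w * g⁻¹ :=
  theta0_conj_of g (psi g) (conj_dpt g) w

end Cfsg.Agent.Lib.Helper12.M23Ext.Equivar
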