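import Mathlib

/-!
A group generated by `p` and `u` with `p ^ m = 1`, `u ^ n = 1` and `u p u⁻¹` a power of `p` has at most `m n`
elements (helper12).
-/

set_option autoImplicit false

namespace Cfsg.Agent.Lib.Helper12.M23Ext

/-- the products `p ^ i * u ^ j` -/
def metaSet {G : Type*} [Group G] (p u : G) (m n : ℕ) : Set G :=
  (fun ij : ℕ × ℕ => p ^ ij.1 * u ^ ij.2) '' ((Finset.range m ×ˢ Finset.range n : Finset (ℕ × ℕ)) : Set (ℕ × ℕ))

theorem metaSet_finite {G : Type*} [Group G] (p u : G) (m n : ℕ) : (metaSet p u m n).Finite :=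
  Set.Finite.image _ (Finset.finite_toSet _)

theorem metaSet_ncard_le {G : Type*} [Group G] (p u : G) (m n : ℕ) : (metaSet p u m n).ncard ≤ m * n := by
  have h := Set.ncard_image_le (f := fun ij : ℕ × ℕ => p ^ ij.1 * u ^ ij.2)
    (Finset.finite_toSet (Finset.range m ×ˢ Finset.range n : Finset (ℕ × ℕ)))
  refine h.trans ?_
  rw [Set.ncard_coe_finset, Finset.card_product, Finset.card_range, Finset.card_range]

theorem mem_metaSet {G : Type*} [Group G] {p u : G} {m n : ℕ} (hm : 0 < m) (hn : 0 < n)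
    (hp : p ^ m = 1) (hu : u ^ n = 1) (i j : ℕ) : p ^ i * u ^ j ∈ metaSet p u m n := by
  refine ⟨(i % m, j % n), ?_, ?_⟩
  · rw [Finset.coe_product, Set.mem_prod]
    exact ⟨Finset.mem_coe.mpr (Finset.mem_range.mpr (Nat.mod_lt _ hm)),
      Finset.mem_coe.mpr (Finset.mem_range.mpr (Nat.mod_lt _ hn))⟩
  · show p ^ (i % m) * u ^ (j % n) = p ^ i * u ^ j
    rw [← pow_eq_pow_mod i hp, ← pow_eq_pow_mod j hu]

theorem closure_pair_subset_metaSet {G : Type*} [Group G] (p u : G) (m n k : ℕ) (hm : 0 < m) (hn : 0 < n)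
    (hp : p ^ m = 1) (hu : u ^ n = 1) (hc : u * p * u⁻¹ = p ^ k) :
    ∀ x ∈ Subgroup.closure ({p, u} : Set G), x ∈ metaSet p u m n := by
  have hmem := fun i j => mem_metaSet hm hn hp hu i j
  have hpl : ∀ y ∈ metaSet p u m n, p * y ∈ metaSet p u m n := by
    rintro _ ⟨⟨i, j⟩, _, rfl⟩
    have : p * (p ^ i * u ^ j) = p ^ (i + 1) * u ^ j := by rw [pow_succ', mul_assoc]
    rw [this]; exact hmem _ _
  have hul : ∀ y ∈ metaSet p u m n, u * y ∈ metaSet p u m n := by
    rintro _ ⟨⟨i, j⟩, _, rfl⟩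
    have h1 : u * p ^ i * u⁻¹ = (p ^ k) ^ i := by rw [← hc, conj_pow]
    have : u * (p ^ i * u ^ j) = p ^ (k * i) * u ^ (j + 1) := by
      rw [pow_mul, ← h1, pow_succ']
      group
    rw [this]; exact hmem _ _
  have hpow : ∀ (g : G), (∀ y ∈ metaSet p u m n, g * y ∈ metaSet p u m n) →
      ∀ r : ℕ, ∀ y ∈ metaSet p u m n, g ^ r * y ∈ metaSet p u m n := by
    intro g hg r
    induction r with
    | zero => intro y hy; rwa [pow_zero, one_mul]
    | succ r ih => intro y hy; rw [pow_succ', mul_assoc]; exact hg _ (ih y hy)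
  have hpinv : p⁻¹ = p ^ (m - 1) := by
    apply inv_eq_of_mul_eq_one_right
    rw [← pow_succ', Nat.sub_add_cancel hm, hp]
  have huinv : u⁻¹ = u ^ (n - 1) := by
    apply inv_eq_of_mul_eq_one_right
    rw [← pow_succ', Nat.sub_add_cancel hn, hu]
  intro x hx
  have key : (∀ y ∈ metaSet p u m n, x * y ∈ metaSet p u m n) ∧
      (∀ y ∈ metaSet p u m n, x⁻¹ * y ∈ metaSet p u m n) := by
    refine Subgroup.closure_induction (p := fun x _ => (∀ y ∈ metaSet p u m n, x * y ∈ metaSet p u m n) ∧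
      (∀ y ∈ metaSet p u m n, x⁻¹ * y ∈ metaSet p u m n)) ?_ ?_ ?_ ?_ hx
    · intro g hg
      rcases hg with rfl | hg
      · exact ⟨hpl, by rw [hpinv]; exact hpow _ hpl _⟩
      · rw [Set.mem_singleton_iff.mp hg]
        exact ⟨hul, by rw [huinv]; exact hpow _ hul _⟩
    · exact ⟨fun y hy => by rwa [one_mul], fun y hy => by rwa [inv_one, one_mul]⟩
    · intro a b _ _ ha hb
      refine ⟨fun y hy => ?_, fun y hy => ?_⟩
      · rw [mul_assoc]; exact ha.1 _ (hb.1 y hy)
      · rw [mul_inv_rev, mul_assoc]; exact hb.2 _ (ha.2 y hy)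
    · intro a _ ha
      exact ⟨ha.2, fun y hy => by rw [inv_inv]; exact ha.1 y hy⟩
  have := key.1 1 (by simpa using hmem 0 0)
  rwa [mul_one] at this

/-- the bound for the order of the group generated by `p` and `u` -/
theorem card_closure_pair_le {G : Type*} [Group G] (p u : G) (m n k : ℕ) (hm : 0 < m) (hn : 0 < n)
    (hp : p ^ m = 1) (hu : u ^ n = 1) (hc : u * p * u⁻¹ = p ^ k) :
    Finite ↥(Subgroup.closure ({p, u} : Set G)) ∧ Nat.card ↥(Subgroup.closure ({p, u} : Set G)) ≤ m * n := by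
  have hsub : ((Subgroup.closure ({p, u} : Set G) : Subgroup G) : Set G) ⊆ metaSet p u m n :=
    fun x hx => closure_pair_subset_metaSet p u m n k hm hn hp hu hc x hx
  have hfin : ((Subgroup.closure ({p, u} : Set G) : Subgroup G) : Set G).Finite :=
    (metaSet_finite p u m n).subset hsub
  refine ⟨hfin.to_subtype, ?_⟩
  have h1 : Nat.card ↥(Subgroup.closure ({p, u} : Set G)) =
      ((Subgroup.closure ({p, u} : Set G) : Subgroup G) : Set G).ncard := rfl
  rw [h1]
  exact (Set.ncard_le_ncard hsub (metaSet_finite p u m n)).trans (metaSet_ncard_le p u m n)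

end Cfsg.Agent.Lib.Helper12.M23Ext
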