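import Cfsg.Agent.Lib.Helper12.TCG.M23x40320.Rho
import Cfsg.Agent.Lib.Helper12.M23Ext.Meta
import Cfsg.Agent.Lib.Helper12.Ord.SubPres

/-!
The presented group of Mathieu has at most `10200960` elements: the subgroup generated by `ab` and `u` has index
`40320` and at most `253` elements (helper12).
-/

set_option autoImplicit false
set_option maxRecDepth 100000

namespace Cfsg.Agent.Lib.Helper12.M23Ext.M23Order

open Cfsg.Agent.Lib.Helper12.TC Cfsg.Agent.Lib.Helper12.TCG Cfsg.Agent.Lib.Helper12.M23Ext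
  Cfsg.Agent.Lib.Helper12.M23Ext.M23Pres Cfsg.Agent.Lib.Helper12.Ord

theorem v_four : v 4 = (v 3)⁻¹ := by
  have h := hbase [3, 4] (by decide)
  rw [wprod_cons, wprod_cons, wprod_nil, mul_one] at h
  exact (inv_eq_of_mul_eq_one_right h).symm

theorem p_pow : (v 0 * v 1) ^ 23 = 1 := by
  have h := hbase [0, 1, 0, 1, 0, 1, 0, 1, 0, 1, 0, 1, 0, 1, 0, 1, 0, 1, 0, 1, 0, 1, 0, 1, 0, 1, 0, 1, 0, 1, 0, 1,
    0, 1, 0, 1, 0, 1, 0, 1, 0, 1, 0, 1, 0, 1] (by decide)
  simpa [wprod, pow_succ, mul_assoc] using h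

theorem u_pow : v 3 ^ 11 = 1 := by
  have h := hbase [3, 3, 3, 3, 3, 3, 3, 3, 3, 3, 3] (by decide)
  simpa [wprod, pow_succ, mul_assoc] using h

theorem u_conj : v 3 * (v 0 * v 1) * (v 3)⁻¹ = (v 0 * v 1) ^ 16 := by
  have h := hbase [3, 0, 1, 4, 0, 1, 0, 1, 0, 1, 0, 1, 0, 1, 0, 1, 0, 1] (by decide)
  have h1 : v 3 * (v 0 * v 1) * (v 3)⁻¹ * (v 0 * v 1) ^ 7 = 1 := by
    rw [← v_four]
    simpa [wprod, pow_succ, mul_assoc] using h
  have h2 : (v 0 * v 1) ^ 7 * (v 0 * v 1) ^ 16 = 1 := by rw [← pow_add]; exact p_pow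
  rw [eq_inv_of_mul_eq_one_left h1, inv_eq_of_mul_eq_one_right h2]

theorem Hs_eq : M23x40320.Hs = Subgroup.closure ({v 0 * v 1, v 3} : Set Grp) := by
  rw [M23x40320.hH]
  congr 1
  ext γ
  constructor
  · rintro ⟨w, hw, rfl⟩
    have hw' : w = [0, 1] ∨ w = [3] := by simpa [M23x40320.sw] using hw
    rcases hw' with rfl | rfl
    · left
      rw [wprod_cons, wprod_cons, wprod_nil, mul_one]
    · right
      rw [wprod_cons, wprod_nil, mul_one]
      rfl
  · rintro (rfl | h)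
    · exact ⟨[0, 1], by decide, by rw [wprod_cons, wprod_cons, wprod_nil, mul_one]⟩
    · rw [Set.mem_singleton_iff.mp h]
      exact ⟨[3], by decide, by rw [wprod_cons, wprod_nil, mul_one]⟩

theorem finite_card_le : Finite Grp ∧ Nat.card Grp ≤ 10200960 := by
  have h := card_closure_pair_le (v 0 * v 1) (v 3) 23 11 16 (by decide) (by decide) p_pow u_pow u_conj
  rw [← Hs_eq] at h
  exact card_le_of_index M23x40320.Hs 40320 253 (by decide) M23x40320.rho_index h.1 h.2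

instance finite : Finite Grp := finite_card_le.1

end Cfsg.Agent.Lib.Helper12.M23Ext.M23Order
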