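import Cfsg.Agent.Lib.Helper12.M23Ext.Psi
import Cfsg.Agent.Lib.Helper12.M23Ext.M23Order
import Cfsg.Agent.Lib.Helper12.M23Ext.ERel

/-!
The kernel of the homomorphism of the presented extension onto the group of Mathieu of degree `23` is the subgroup
generated by the involutions: the quotient by that subgroup is an image of the presented group of Mathieu, which has
the order of the group of Mathieu (helper12).
-/

set_option autoImplicit false
set_option maxRecDepth 100000

namespace Cfsg.Agent.Lib.Helper12.M23Ext.Kernel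

open Cfsg Cfsg.Agent.Lib.helper4 Cfsg.Agent.Lib.Helper12.TC Cfsg.Agent.Lib.Helper12.TCG
  Cfsg.Agent.Lib.Helper12.M23Ext Cfsg.Agent.Lib.Helper12.M23Ext.ERel Cfsg.Agent.Lib.Helper12.M23Ext.Psi

theorem D_le_ker : D ≤ psi.ker := by
  unfold D
  rw [Subgroup.closure_le]
  rintro _ ⟨t, ht, rfl⟩
  rw [SetLike.mem_coe, MonoidHom.mem_ker, psi_letter (5 + t) (by omega), fl_ge (by omega)]

theorem psiM_mem_M23 (γ : M23Pres.Grp) : psiM γ ∈ Cfsg.Spor.M23 := by
  refine Subgroup.closure_induction (p := fun γ _ => psiM γ ∈ Cfsg.Spor.M23) ?_ ?_ ?_ ?_ (M23Pres.hgen γ)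
  · rintro y ⟨x, hx, rfl⟩
    rw [psiM_letter x hx]
    exact fl_mem_M23 x
  · rw [map_one]; exact Subgroup.one_mem _
  · intro x y _ _ hx hy
    rw [map_mul]; exact Subgroup.mul_mem _ hx hy
  · intro x _ hx
    rw [map_inv]; exact Subgroup.inv_mem _ hx

theorem range_psiM : psiM.range = Cfsg.Spor.M23 := by
  apply le_antisymm
  · rintro _ ⟨γ, rfl⟩
    exact psiM_mem_M23 γ
  · exact M23_le_range_psiM

/-- the presented group of Mathieu acts faithfully -/
theorem psiM_injective : Function.Injective psiM := by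
  have hs : Function.Surjective psiM.rangeRestrict := psiM.rangeRestrict_surjective
  have hc : Nat.card M23Pres.Grp ≤ Nat.card psiM.range := by
    rw [range_psiM, card_SporM23]
    exact M23Order.finite_card_le.2
  have hfin : Finite M23Pres.Grp := M23Order.finite_card_le.1
  have hb := hs.bijective_of_nat_card_le hc
  intro x y h
  apply hb.1
  exact Subtype.ext h

/-- the corrections of the relators -/
def dcands : List (List ℕ) := [[], [8, 13, 17], [9, 10], [18, 20], [17, 19, 21], [8, 10, 14], [12, 20, 25]]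

theorem lift_rel : ∀ b ∈ M23Pres.baseL, ∃ dw ∈ dcands, b ++ dw ∈ EPres.relsE ++ (EPres.pairsE ++ [[]]) := by
  decide +kernel

theorem mem_baseL_of {b : List ℕ} (h : b ∈ EPres.relsE ++ (EPres.pairsE ++ [[]])) : b ∈ EPres.baseL := by
  unfold EPres.baseL
  rcases List.mem_append.mp h with h | h
  · exact List.mem_append_left _ h
  rcases List.mem_append.mp h with h | h
  · exact List.mem_append_right _ (List.mem_append_left _ h)
  · rw [List.mem_singleton.mp h]
    decide

theorem dcands_mem : ∀ dw ∈ dcands, ∀ s ∈ dw, 5 ≤ s ∧ s < 28 := by decide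

theorem wprod_mem_D (w : List ℕ) (hw : ∀ s ∈ w, 5 ≤ s ∧ s < 28) : wprod EPres.v w ∈ D := by
  induction w with
  | nil => exact D.one_mem
  | cons s w ih =>
    rw [wprod_cons]
    exact D.mul_mem (letter_ge_mem (hw s List.mem_cons_self).1 (hw s List.mem_cons_self).2)
      (ih fun t ht => hw t (List.mem_cons_of_mem _ ht))

/-- the images of the letters in the quotient -/
noncomputable def qv (x : ℕ) : EPres.Grp ⧸ D := QuotientGroup.mk (EPres.v x)

theorem hw_alpha : ∀ b ∈ M23Pres.baseL, wprod qv b = 1 := by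
  intro b hb
  obtain ⟨dw, hdw, hmem⟩ := lift_rel b hb
  have h1 := EPres.hbase _ (mem_baseL_of hmem)
  rw [wprod_append] at h1
  have h2 : wprod EPres.v b = (wprod EPres.v dw)⁻¹ := eq_inv_of_mul_eq_one_left h1
  show wprod (fun s => (QuotientGroup.mk' D) (EPres.v s)) b = 1
  rw [WPres.wprod_map, h2]
  exact (QuotientGroup.eq_one_iff _).mpr (D.inv_mem (wprod_mem_D dw (dcands_mem dw hdw)))

theorem exists_alpha : ∃ ρ : M23Pres.Grp →* EPres.Grp ⧸ D, ∀ x < 5, ρ (M23Pres.v x) = qv x :=
  M23Pres.hliftG qv hw_alpha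

/-- the homomorphism of the presented group of Mathieu onto the quotient -/
noncomputable def alpha : M23Pres.Grp →* EPres.Grp ⧸ D := exists_alpha.choose

theorem alpha_letter : ∀ x < 5, alpha (M23Pres.v x) = qv x := exists_alpha.choose_spec

theorem alpha_surjective : Function.Surjective alpha := by
  intro q
  obtain ⟨γ, rfl⟩ := QuotientGroup.mk_surjective q
  have h : (QuotientGroup.mk γ : EPres.Grp ⧸ D) ∈ alpha.range := by
    refine Subgroup.closure_induction (p := fun γ _ => (QuotientGroup.mk γ : EPres.Grp ⧸ D) ∈ alpha.range)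
      ?_ ?_ ?_ ?_ (EPres.hgen γ)
    · rintro y ⟨x, hx, rfl⟩
      by_cases h5 : x < 5
      · exact ⟨M23Pres.v x, alpha_letter x h5⟩
      · have h1 : (QuotientGroup.mk (EPres.v x) : EPres.Grp ⧸ D) = 1 :=
          (QuotientGroup.eq_one_iff _).mpr (letter_ge_mem (by omega) hx)
        rw [h1]
        exact Subgroup.one_mem _
    · rw [QuotientGroup.mk_one]
      exact Subgroup.one_mem _
    · intro a b _ _ ha hb
      rw [QuotientGroup.mk_mul]
      exact Subgroup.mul_mem _ ha hb
    · intro a _ ha
      rw [QuotientGroup.mk_inv]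
      exact Subgroup.inv_mem _ ha
  exact h

/-- the action of the quotient on the `24` points -/
noncomputable def psibar : EPres.Grp ⧸ D →* Equiv.Perm GolayPt := QuotientGroup.lift D psi D_le_ker

theorem psibar_comp_alpha : psibar.comp alpha = psiM := by
  apply WPres.hom_ext 5 M23Pres.baseL
  intro x hx
  show psibar (alpha (M23Pres.v x)) = psiM (M23Pres.v x)
  rw [alpha_letter x hx, psiM_letter x hx]
  show psibar (QuotientGroup.mk (EPres.v x)) = fl x
  unfold psibar
  rw [QuotientGroup.lift_mk, psi_letter x (by omega)]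

/-- the kernel is the subgroup generated by the involutions -/
theorem ker_eq : psi.ker = D := by
  apply le_antisymm _ D_le_ker
  intro γ hγ
  rw [MonoidHom.mem_ker] at hγ
  obtain ⟨m, hm⟩ := alpha_surjective (QuotientGroup.mk γ)
  have h1 : psiM m = 1 := by
    rw [← psibar_comp_alpha]
    show psibar (alpha m) = 1
    rw [hm]
    unfold psibar
    rw [QuotientGroup.lift_mk]
    exact hγ
  have h2 : m = 1 := psiM_injective (by rw [h1, map_one])
  rw [h2, map_one] at hm
  exact (QuotientGroup.eq_one_iff γ).mp hm.symm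

end Cfsg.Agent.Lib.Helper12.M23Ext.Kernel
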