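import Cfsg.Agent.Lib.Helper12.TCG.WPres

/-!
A presentation of the group of Mathieu of degree `23` on the letters `a` (`0`), `b` (`1`), `b⁻¹` (`2`), `u` (`3`),
`u⁻¹` (`4`): `a`, `b` are standard generators, `u` is a word in them of order `11` normalizing the group generated by `ab` (helper12).
-/

set_option autoImplicit false
set_option maxRecDepth 100000

namespace Cfsg.Agent.Lib.Helper12.M23Ext.M23Pres

open Cfsg.Agent.Lib.Helper12.TC Cfsg.Agent.Lib.Helper12.TCG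

/-- the base words: the relators, the letters with their inverses, the empty word -/
def baseL : List (List ℕ) :=
  [[1, 1, 1, 1],
   [0, 1, 0, 1, 0, 1, 0, 1, 0, 1, 0, 1, 0, 1, 0, 1, 0, 1, 0, 1, 0, 1, 0, 1, 0, 1, 0, 1, 0, 1, 0, 1, 0, 1, 0, 1, 0, 1, 0, 1, 0, 1, 0, 1, 0, 1],
   [3, 3, 3, 3, 3, 3, 3, 3, 3, 3, 3],
   [3, 0, 1, 4, 0, 1, 0, 1, 0, 1, 0, 1, 0, 1, 0, 1, 0, 1],
   [4, 0, 1, 1, 0, 1, 1, 0, 2, 0, 2, 0, 1, 1, 0, 2, 0, 1, 1, 0, 1, 0, 2, 0, 1, 0, 1, 1],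
   [0, 1, 1, 0, 1, 1, 0, 1, 1, 0, 1, 1, 0, 1, 1, 0, 1, 1],
   [0, 2, 0, 1, 0, 2, 0, 1, 0, 2, 0, 1, 0, 2, 0, 1, 0, 2, 0, 1, 0, 2, 0, 1],
   [0, 1, 0, 2, 0, 1, 1, 0, 1, 0, 2, 0, 1, 1, 0, 1, 0, 2, 0, 1, 1, 0, 1, 0, 2, 0, 1, 1],
   [0, 1, 0, 1, 0, 1, 0, 2, 0, 1, 1, 0, 1, 0, 2, 0, 1, 0, 2, 0, 1, 0, 1, 0, 1, 0, 2, 0, 2, 0, 2],
   [0, 1, 0, 1, 1, 0, 1, 0, 1, 1, 0, 1, 0, 1, 1, 0, 1, 1, 0, 2, 0, 1, 1, 0, 2, 0, 1, 0, 1, 1, 0, 1, 0, 2, 0, 1, 1],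
   [0, 0],
   [1, 2],
   [2, 1],
   [3, 4],
   [4, 3],
   []]

/-- the inverse letters -/
def cIV : ℕ := 18364758544493003040

/-- the presented group -/
abbrev Grp : Type := WPres.Grp 5 baseL

/-- the letters as elements of the presented group -/
def v : ℕ → Grp := WPres.v 5 baseL

theorem hiv : ivK cIV 5 = true := by decide

theorem hlet : lettersK 5 baseL = true := by decide

theorem hbase : ∀ b ∈ baseL, wprod v b = 1 := WPres.hbase 5 baseL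

theorem hvge : ∀ s, ¬ s < 5 → v s = 1 := WPres.hvge 5 baseL

theorem hvinv : ∀ s < 5, v (invS cIV s) = (v s)⁻¹ :=
  WPres.hvinv 5 baseL cIV (by decide)

theorem hgen : ∀ γ : Grp, γ ∈ Subgroup.closure {y | ∃ x < 5, y = v x} := WPres.hgen 5 baseL

theorem hlift {N : ℕ} (f : ℕ → Equiv.Perm (Fin N)) (hf : ∀ s < 5, f (invS cIV s) = (f s)⁻¹)
    (hw : ∀ b ∈ baseL, wprod f b = 1) :
    ∃ ρ : Grp →* Equiv.Perm (Fin N), ∀ x < 5, ρ (v x) = f x :=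
  WPres.hliftPerm 5 baseL hlet cIV f hf hw

/-- the universal property -/
theorem hliftG {K : Type*} [Group K] (f : ℕ → K) (hw : ∀ b ∈ baseL, wprod f b = 1) :
    ∃ ρ : Grp →* K, ∀ x < 5, ρ (v x) = f x :=
  WPres.hlift 5 baseL hlet f hw

end Cfsg.Agent.Lib.Helper12.M23Ext.M23Pres
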