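import Cfsg.Agent.Lib.Helper12.M23Ext.Pi
import Cfsg.Agent.Lib.Helper12.M23Ext.ERel

/-!
The subgroup generated by the involutions of the presented extension has no complement: two elements which generate
a quaternion group modulo it have no lifts which satisfy the relations of the quaternion group, as is seen on eight of
the `506` points (helper12).
-/

set_option autoImplicit false
set_option maxRecDepth 100000

namespace Cfsg.Agent.Lib.Helper12.M23Ext.NonSplit

open Cfsg.Agent.Lib.Helper12.TC Cfsg.Agent.Lib.Helper12.TC.Fn Cfsg.Agent.Lib.Helper12.TCG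
  Cfsg.Agent.Lib.Helper12.M23Ext Cfsg.Agent.Lib.Helper12.M23Ext.EPres Cfsg.Agent.Lib.Helper12.M23Ext.ERel

/-- the permutation agrees with the table on the first eight points -/
def Agrees (σ : Equiv.Perm (Fin 506)) (T : List ℕ) : Prop :=
  ∀ i : ℕ, ∀ hi : i < 8, ((σ ⟨i, lt_trans hi (by norm_num)⟩ : Fin 506) : ℕ) = T.getD i 0

/-- the composition of two tables -/
def compT (T1 T2 : List ℕ) : List ℕ := (List.range 8).map fun i => T1.getD (T2.getD i 0) 0

theorem compT_getD (T1 T2 : List ℕ) {i : ℕ} (hi : i < 8) :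
    (compT T1 T2).getD i 0 = T1.getD (T2.getD i 0) 0 := by
  unfold compT
  rw [List.getD_eq_getElem _ _ (by simpa using hi)]
  simp

/-- the entries of the table are among the first eight points -/
def okT (T : List ℕ) : Prop := ∀ i < 8, T.getD i 0 < 8

theorem okT_compT {T1 T2 : List ℕ} (h1 : okT T1) (h2 : okT T2) : okT (compT T1 T2) := by
  intro i hi
  rw [compT_getD _ _ hi]
  exact h1 _ (h2 i hi)

theorem agrees_mul {σ τ : Equiv.Perm (Fin 506)} {T1 T2 : List ℕ} (h1 : Agrees σ T1) (h2 : Agrees τ T2)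
    (hok : okT T2) : Agrees (σ * τ) (compT T1 T2) := by
  intro i hi
  rw [compT_getD _ _ hi, Equiv.Perm.mul_apply]
  have e : τ ⟨i, lt_trans hi (by norm_num)⟩ = ⟨T2.getD i 0, lt_trans (hok i hi) (by norm_num)⟩ :=
    Fin.ext (h2 i hi)
  rw [e]
  exact h1 _ (hok i hi)

theorem agrees_one : Agrees 1 (List.range 8) := by
  intro i hi
  rw [Equiv.Perm.one_apply, List.getD_eq_getElem _ _ (by simpa using hi)]
  simp

theorem agrees_inv {σ : Equiv.Perm (Fin 506)} {T : List ℕ} (h : Agrees σ T)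
    (hinv : ∀ i < 8, T.getD i 0 < 8 ∧ T.getD (T.getD i 0) 0 = i) : Agrees σ⁻¹ T := by
  intro i hi
  have h1 := (h (T.getD i 0) (hinv i hi).1).trans (hinv i hi).2
  have e : σ⁻¹ ⟨i, lt_trans hi (by norm_num)⟩ = ⟨T.getD i 0, lt_trans (hinv i hi).1 (by norm_num)⟩ := by
    rw [Equiv.Perm.inv_eq_iff_eq]
    exact Fin.ext h1.symm
  rw [e]

theorem agrees_unique {σ : Equiv.Perm (Fin 506)} {T1 T2 : List ℕ} (h1 : Agrees σ T1) (h2 : Agrees σ T2) :
    ∀ i < 8, T1.getD i 0 = T2.getD i 0 := fun i hi => (h1 i hi).symm.trans (h2 i hi)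

/-- the table of a word on the first eight points -/
def tblW (w : List ℕ) : List ℕ := (List.range 8).map fun i => applyW Pi.TT w i

theorem agrees_word (w : List ℕ) (hw : ∀ s ∈ w, s < 28) : Agrees (Pi.pi (wprod v w)) (tblW w) := by
  intro i hi
  rw [Pi.pi_word w hw]
  unfold tblW
  rw [List.getD_eq_getElem _ _ (by simpa using hi)]
  simp

/-- the tables of the subgroup generated by the involutions -/
def NY : List (List ℕ) :=
  [[0, 1, 2, 3, 4, 5, 6, 7], [0, 1, 2, 3, 5, 4, 7, 6], [0, 1, 3, 2, 4, 5, 7, 6], [0, 1, 3, 2, 5, 4, 6, 7],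
   [1, 0, 2, 3, 4, 5, 7, 6], [1, 0, 2, 3, 5, 4, 6, 7], [1, 0, 3, 2, 4, 5, 6, 7], [1, 0, 3, 2, 5, 4, 7, 6]]

/-- the table of the first element -/
def tX : List ℕ := [0, 1, 4, 5, 3, 2, 6, 7]

/-- the table of the second element -/
def tY : List ℕ := [6, 7, 4, 5, 3, 2, 1, 0]

/-- the word of the second element -/
def yw : List ℕ :=
  [0, 1, 1, 0, 2, 0, 2, 0, 1, 1, 0, 1, 0, 1, 0, 1, 1, 0, 1, 0, 1, 1, 0, 2, 0, 2, 0, 1, 1, 0, 1, 0, 1, 0, 1, 1, 0, 1]

theorem tblW_d : ∀ t < 23, tblW [5 + t] ∈ NY := by decide +kernel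

theorem tblW_x : tblW [1] = tX := by decide +kernel

theorem tblW_y : tblW yw = tY := by decide +kernel

theorem NY_mul : ∀ T1 ∈ NY, ∀ T2 ∈ NY, compT T1 T2 ∈ NY := by decide +kernel

theorem NY_inv : ∀ T ∈ NY, ∀ i < 8, T.getD i 0 < 8 ∧ T.getD (T.getD i 0) 0 = i := by decide +kernel

theorem NY_ok {T : List ℕ} (hT : T ∈ NY) : okT T := fun i hi => (NY_inv T hT i hi).1

theorem okT_tX : okT tX := by unfold okT; decide

theorem okT_tY : okT tY := by unfold okT; decide

theorem v_eq_wprod (x : ℕ) : v x = wprod v [x] := by rw [wprod_cons, wprod_nil, mul_one]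

/-- the elements of the subgroup generated by the involutions act on the eight points by one of the eight tables -/
theorem agrees_D : ∀ d ∈ D, ∃ T ∈ NY, Agrees (Pi.pi d) T := by
  intro d hd
  refine Subgroup.closure_induction (p := fun d _ => ∃ T ∈ NY, Agrees (Pi.pi d) T) ?_ ?_ ?_ ?_ hd
  · rintro y ⟨t, ht, rfl⟩
    refine ⟨tblW [5 + t], tblW_d t ht, ?_⟩
    rw [v_eq_wprod]
    apply agrees_word
    intro s hs
    rw [List.mem_singleton.mp hs]
    omega
  · exact ⟨List.range 8, by decide, by rw [map_one]; exact agrees_one⟩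
  · rintro a b _ _ ⟨T1, h1, a1⟩ ⟨T2, h2, a2⟩
    exact ⟨compT T1 T2, NY_mul T1 h1 T2 h2, by rw [map_mul]; exact agrees_mul a1 a2 (NY_ok h2)⟩
  · rintro a _ ⟨T, hT, a1⟩
    exact ⟨T, hT, by rw [map_inv]; exact agrees_inv a1 (NY_inv T hT)⟩

/-- no lifts of the two elements satisfy the relations of the quaternion group -/
theorem cert : ∀ M1 ∈ NY, ∀ M2 ∈ NY,
    ¬ ((∀ i < 8, (compT (compT tX M1) (compT (compT tY M2) (compT tX M1))).getD i 0 = (compT tY M2).getD i 0) ∧
      (∀ i < 8, (compT (compT tY M2) (compT (compT tX M1) (compT tY M2))).getD i 0 =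
        (compT tX M1).getD i 0)) := by
  decide +kernel

theorem agrees_x : Agrees (Pi.pi (v 1)) tX := by
  rw [v_eq_wprod, ← tblW_x]
  exact agrees_word [1] (by decide)

theorem agrees_y : Agrees (Pi.pi (wprod v yw)) tY := by
  rw [← tblW_y]
  exact agrees_word yw (by decide)

/-- every element is the product of an element of a supplement and an element of the normal subgroup -/
theorem exists_mul_mem {H : Subgroup Grp} (hsup : H ⊔ D = ⊤) (g : Grp) : ∃ m ∈ D, g * m ∈ H := by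
  have h : g ∈ ((H ⊔ D : Subgroup Grp) : Set Grp) := by rw [hsup]; trivial
  rw [Subgroup.mul_normal] at h
  obtain ⟨h0, hh0, n, hn, rfl⟩ := Set.mem_mul.mp h
  exact ⟨n⁻¹, D.inv_mem hn, by rw [mul_assoc, mul_inv_cancel, mul_one]; exact hh0⟩

/-- the subgroup generated by the involutions has no complement -/
theorem no_complement
    (hr1 : v 1 * wprod v yw * v 1 * (wprod v yw)⁻¹ ∈ D)
    (hr2 : wprod v yw * v 1 * wprod v yw * (v 1)⁻¹ ∈ D)
    (H : Subgroup Grp) (hHN : H ⊓ D = ⊥) : H ⊔ D ≠ ⊤ := by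
  intro hsup
  obtain ⟨m1, hm1, hh1⟩ := exists_mul_mem hsup (v 1)
  obtain ⟨m2, hm2, hh2⟩ := exists_mul_mem hsup (wprod v yw)
  have hq : ∀ g : Grp, ∀ m ∈ D, (QuotientGroup.mk (g * m) : Grp ⧸ D) = QuotientGroup.mk g := by
    intro g m hm
    rw [QuotientGroup.mk_mul, (QuotientGroup.eq_one_iff m).mpr hm, mul_one]
  have hbot : ∀ r : Grp, r ∈ H → r ∈ D → r = 1 := by
    intro r hrH hrD
    have : r ∈ H ⊓ D := ⟨hrH, hrD⟩
    rw [hHN] at this
    exact Subgroup.mem_bot.mp this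
  have e1 : v 1 * m1 * (wprod v yw * m2) * (v 1 * m1) * (wprod v yw * m2)⁻¹ = 1 := by
    apply hbot
    · exact H.mul_mem (H.mul_mem (H.mul_mem hh1 hh2) hh1) (H.inv_mem hh2)
    · rw [← QuotientGroup.eq_one_iff, QuotientGroup.mk_mul, QuotientGroup.mk_mul, QuotientGroup.mk_mul,
        QuotientGroup.mk_inv, hq _ m1 hm1, hq _ m2 hm2, ← QuotientGroup.mk_inv, ← QuotientGroup.mk_mul,
        ← QuotientGroup.mk_mul, ← QuotientGroup.mk_mul, QuotientGroup.eq_one_iff]
      exact hr1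
  have e2 : wprod v yw * m2 * (v 1 * m1) * (wprod v yw * m2) * (v 1 * m1)⁻¹ = 1 := by
    apply hbot
    · exact H.mul_mem (H.mul_mem (H.mul_mem hh2 hh1) hh2) (H.inv_mem hh1)
    · rw [← QuotientGroup.eq_one_iff, QuotientGroup.mk_mul, QuotientGroup.mk_mul, QuotientGroup.mk_mul,
        QuotientGroup.mk_inv, hq _ m1 hm1, hq _ m2 hm2, ← QuotientGroup.mk_inv, ← QuotientGroup.mk_mul,
        ← QuotientGroup.mk_mul, ← QuotientGroup.mk_mul, QuotientGroup.eq_one_iff]
      exact hr2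
  have f1 : v 1 * m1 * ((wprod v yw * m2) * (v 1 * m1)) = wprod v yw * m2 := by
    rw [← mul_assoc]
    exact mul_inv_eq_one.mp e1
  have f2 : wprod v yw * m2 * ((v 1 * m1) * (wprod v yw * m2)) = v 1 * m1 := by
    rw [← mul_assoc]
    exact mul_inv_eq_one.mp e2
  obtain ⟨M1, hM1, a1⟩ := agrees_D m1 hm1
  obtain ⟨M2, hM2, a2⟩ := agrees_D m2 hm2
  have aA : Agrees (Pi.pi (v 1 * m1)) (compT tX M1) := by
    rw [map_mul]; exact agrees_mul agrees_x a1 (NY_ok hM1)
  have aB : Agrees (Pi.pi (wprod v yw * m2)) (compT tY M2) := by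
    rw [map_mul]; exact agrees_mul agrees_y a2 (NY_ok hM2)
  have okA : okT (compT tX M1) := okT_compT okT_tX (NY_ok hM1)
  have okB : okT (compT tY M2) := okT_compT okT_tY (NY_ok hM2)
  have c1 : Agrees (Pi.pi (v 1 * m1 * ((wprod v yw * m2) * (v 1 * m1))))
      (compT (compT tX M1) (compT (compT tY M2) (compT tX M1))) := by
    have h := agrees_mul aA (agrees_mul aB aA okA) (okT_compT okB okA)
    rwa [← map_mul, ← map_mul] at h
  have c2 : Agrees (Pi.pi (wprod v yw * m2 * ((v 1 * m1) * (wprod v yw * m2))))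
      (compT (compT tY M2) (compT (compT tX M1) (compT tY M2))) := by
    have h := agrees_mul aB (agrees_mul aA aB okB) (okT_compT okA okB)
    rwa [← map_mul, ← map_mul] at h
  rw [f1] at c1
  rw [f2] at c2
  exact cert M1 hM1 M2 hM2 ⟨agrees_unique c1 aB, agrees_unique c2 aA⟩

end Cfsg.Agent.Lib.Helper12.M23Ext.NonSplit
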