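import Cfsg.Agent.Lib.Helper12.M23Ext.PiData

/-!
The permutation representation of degree `506` of the extension (helper12).
-/

set_option autoImplicit false
set_option maxRecDepth 100000

namespace Cfsg.Agent.Lib.Helper12.M23Ext.Pi

open Cfsg.Agent.Lib.Helper12.TC Cfsg.Agent.Lib.Helper12.TC.Fn Cfsg.Agent.Lib.Helper12.TCG
  Cfsg.Agent.Lib.Helper12.M23Ext

theorem hperm : TabPerm.permIK TT iv 28 506 = true := by decide +kernel

theorem hrels1 : relsK TT 506 EPres.relsE = true := by decide +kernel
theorem hrels2 : relsK TT 506 EPres.pairsE = true := by decide +kernel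
theorem hrels3 : relsK TT 506 EPres.dsqE = true := by decide +kernel
theorem hrels4 : relsK TT 506 EPres.commE = true := by decide +kernel
theorem hrels5 : relsK TT 506 EPres.conjE = true := by decide +kernel
theorem hrels6 : relsK TT 506 EPres.golE = true := by decide +kernel

theorem hrels : ∀ b ∈ EPres.baseL, ∀ i < 506, applyW TT b i = i := by
  intro b hb
  unfold EPres.baseL at hb
  rcases List.mem_append.mp hb with h | hb
  · exact TabPerm.relsK_spec hrels1 b h
  rcases List.mem_append.mp hb with h | hb
  · exact TabPerm.relsK_spec hrels2 b h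
  rcases List.mem_append.mp hb with h | hb
  · exact TabPerm.relsK_spec hrels3 b h
  rcases List.mem_append.mp hb with h | hb
  · exact TabPerm.relsK_spec hrels4 b h
  rcases List.mem_append.mp hb with h | hb
  · exact TabPerm.relsK_spec hrels5 b h
  rcases List.mem_append.mp hb with h | hb
  · exact TabPerm.relsK_spec hrels6 b h
  · rw [List.mem_singleton.mp hb]
    intro i _
    rfl

theorem exists_pi : ∃ ρ : EPres.Grp →* Equiv.Perm (Fin 506),
    ∀ x < 28, ∀ i : Fin 506, ((ρ (EPres.v x) i : Fin 506) : ℕ) = TT x i.val :=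
  TabPerm.hom_of_table EPres.baseL EPres.hlet hperm hrels

/-- the permutation representation of degree `506` -/
noncomputable def pi : EPres.Grp →* Equiv.Perm (Fin 506) := exists_pi.choose

theorem pi_letter : ∀ x < 28, ∀ i : Fin 506, ((pi (EPres.v x) i : Fin 506) : ℕ) = TT x i.val :=
  exists_pi.choose_spec

/-- the image of a word -/
theorem pi_word (l : List ℕ) (hl : ∀ s ∈ l, s < 28) (i : Fin 506) :
    ((pi (wprod EPres.v l) i : Fin 506) : ℕ) = applyW TT l i.val :=
  TabPerm.hom_word EPres.v pi pi_letter l hl i

end Cfsg.Agent.Lib.Helper12.M23Ext.Pi
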