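import Cfsg.Agent.Lib.Helper12.M23Ext.Theta1
import Cfsg.Agent.Lib.Helper12.M23Ext.Pi
import Cfsg.Agent.Lib.Helper12.M23Ext.LeaderData

/-!
The kernel of the map from the binary words to the presented extension: the words of the code and their translates by
the unit vector of the extra point (helper12).
-/

set_option autoImplicit false
set_option maxRecDepth 100000

namespace Cfsg.Agent.Lib.Helper12.M23Ext.Theta

open Cfsg Cfsg.Agent.Lib.Helper12.Golay Cfsg.Agent.Lib.Helper12.TC Cfsg.Agent.Lib.Helper12.TC.Fn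
  Cfsg.Agent.Lib.Helper12.TCG
  Cfsg.Agent.Lib.Helper12.M23Ext Cfsg.Agent.Lib.Helper12.M23Ext.EPres Cfsg.Agent.Lib.Helper12.M23Ext.ERel

theorem dletters_rows : ∀ r ∈ rows, dletters r ∈ golE := by decide +kernel

theorem theta0_wd_row {r : ℕ} (hr : r ∈ rows) : theta0 (wd r) = 1 := by
  rw [theta0_wd]
  exact hbase _ (mem_base_gol (dletters_rows r hr))

theorem theta0_of_mem_code {w : GolayPt → ZMod 2} (hw : w ∈ golayCode) : theta0 w = 1 := by
  rw [golayCode_eq_rowSpan] at hw
  unfold rowSpan at hw
  refine Submodule.span_induction (p := fun w _ => theta0 w = 1) ?_ ?_ ?_ ?_ hw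
  · rintro w ⟨r, hr, rfl⟩
    exact theta0_wd_row hr
  · exact theta0_zero
  · intro x y _ _ hx hy
    rw [theta0_add, hx, hy, mul_one]
  · intro c x _ hx
    rcases zmod2_cases c with rfl | rfl
    · rw [zero_smul]; exact theta0_zero
    · rw [one_smul]; exact hx

theorem single_none : (Pi.single none 1 : GolayPt → ZMod 2) = wd 8388608 := by
  funext p
  revert p
  decide

theorem theta0_single_none : theta0 (Pi.single none 1) = 1 := by
  rw [single_none, theta0_wd]
  have h : dletters 8388608 = [] := by decide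
  rw [h]
  rfl

/-- the map is trivial on the words of the code and their translates -/
theorem theta0_of_mem {w : GolayPt → ZMod 2}
    (h : w ∈ golayCode ∨ w + Pi.single none 1 ∈ golayCode) : theta0 w = 1 := by
  rcases h with h | h
  · exact theta0_of_mem_code h
  · have h1 := theta0_of_mem_code h
    rwa [theta0_add, theta0_single_none, mul_one] at h1

/-- membership of a mask in the code or its translate -/
def isCodeX (m : ℕ) : Bool := isCode m || isCode (m ^^^ 8388608)

theorem theta0_of_isCodeX {m : ℕ} (hm : m < 2 ^ 24) (h : isCodeX m = true) : theta0 (wd m) = 1 := by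
  unfold isCodeX at h
  rw [Bool.or_eq_true] at h
  apply theta0_of_mem
  rcases h with h | h
  · exact Or.inl ((wd_mem_golayCode_iff hm).mpr h)
  · right
    rw [single_none, ← wd_xor]
    exact (wd_mem_golayCode_iff (Nat.xor_lt_two_pow hm (by norm_num))).mpr h

/-- the check of the coset leader of a syndrome -/
def chk (s : ℕ) : Bool :=
  (isCodeX ((4096 * s) ^^^ leader s) && Nat.blt (leader s) 8388608) &&
    ((Nat.beq s 0 || Nat.beq s 2048 ||
      !(Nat.beq (applyW Pi.TT (dletters (leader s)) (wit s)) (wit s))) && Nat.blt (wit s) 506)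

theorem chk_all : allBelow 4096 chk = true := by decide +kernel

theorem dletters_lt (m : ℕ) : ∀ s ∈ dletters m, s < 28 := by
  intro s hs
  unfold dletters at hs
  obtain ⟨t, ht, rfl⟩ := List.mem_map.mp hs
  have := List.mem_range.mp (List.mem_filter.mp ht).1
  omega

/-- the kernel of the map -/
theorem theta0_eq_one_iff (w : GolayPt → ZMod 2) :
    theta0 w = 1 ↔ (w ∈ golayCode ∨ w + Pi.single none 1 ∈ golayCode) := by
  refine ⟨fun h => ?_, theta0_of_mem⟩
  have hmlt : maskW w < 2 ^ 24 := maskW_lt w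
  have hw : wd (maskW w) = w := wd_maskW w
  generalize maskW w = m at hmlt hw
  have hu : m % 4096 < 4096 := Nat.mod_lt _ (by norm_num)
  have hclt : enc (m % 4096) < 2 ^ 24 := enc_lt _
  have hc : wd (enc (m % 4096)) ∈ golayCode := (wd_mem_golayCode_iff hclt).mpr (isCode_enc hu)
  have hr1 : theta0 (wd (m ^^^ enc (m % 4096))) = 1 := by
    rw [wd_xor, theta0_add, hw, h, theta0_of_mem_code hc, mul_one]
  have hrlt : m ^^^ enc (m % 4096) < 2 ^ 24 := Nat.xor_lt_two_pow hmlt hclt
  have hrmod : (m ^^^ enc (m % 4096)) % 4096 = 0 := by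
    have e : (4096 : ℕ) = 2 ^ 12 := by norm_num
    rw [e, Nat.xor_mod_two_pow, ← e, enc_mod hu, Nat.xor_self]
  generalize hrdef : m ^^^ enc (m % 4096) = r at hr1 hrlt hrmod
  have hs : r / 4096 < 4096 := by omega
  have hrs : r = 4096 * (r / 4096) := by omega
  have hchk := allBelow_spec chk_all (r / 4096) hs
  generalize r / 4096 = s at hs hrs hchk
  unfold chk at hchk
  rw [Bool.and_eq_true, Bool.and_eq_true, Bool.and_eq_true] at hchk
  obtain ⟨⟨hX, hl⟩, hor, hwit⟩ := hchk
  have hl' : leader s < 2 ^ 24 := lt_trans (Nat.le_of_ble_eq_true hl) (by norm_num)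
  have hwit' : wit s < 506 := Nat.le_of_ble_eq_true hwit
  have hX1 : theta0 (wd ((4096 * s) ^^^ leader s)) = 1 :=
    theta0_of_isCodeX (Nat.xor_lt_two_pow (hrs ▸ hrlt) hl') hX
  have hl1 : theta0 (wd (leader s)) = 1 := by
    have e : wd r = wd ((4096 * s) ^^^ leader s) + wd (leader s) := by
      rw [← wd_xor, Nat.xor_xor_cancel_right, ← hrs]
    rw [e, theta0_add, hX1, one_mul] at hr1
    exact hr1
  rw [theta0_wd] at hl1
  have hpi := Pi.pi_word (dletters (leader s)) (dletters_lt _) ⟨wit s, hwit'⟩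
  rw [hl1, map_one, Equiv.Perm.one_apply] at hpi
  have hs01 : s = 0 ∨ s = 2048 := by
    rw [Bool.or_eq_true, Bool.or_eq_true] at hor
    rcases hor with (h0 | h0) | h0
    · exact Or.inl (Nat.eq_of_beq_eq_true h0)
    · exact Or.inr (Nat.eq_of_beq_eq_true h0)
    · exfalso
      rw [Bool.not_eq_true', ← hpi] at h0
      have h1 : Nat.beq (wit s) (wit s) = true := Nat.beq_refl _
      rw [h1] at h0
      exact Bool.noConfusion h0
  have hmc : m = r ^^^ enc (m % 4096) := by
    rw [← hrdef, Nat.xor_xor_cancel_right]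
  rcases hs01 with rfl | rfl
  · left
    rw [← hw, hmc, hrs, Nat.mul_zero, Nat.zero_xor]
    exact hc
  · right
    rw [← hw, single_none, ← wd_xor, hmc, hrs]
    have e : (4096 * 2048 ^^^ enc (m % 4096)) ^^^ 8388608 = enc (m % 4096) := by
      rw [Nat.xor_comm (4096 * 2048), Nat.xor_xor_cancel_right]
    rw [e]
    exact hc

end Cfsg.Agent.Lib.Helper12.M23Ext.Theta
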