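import Cfsg.Agent.Lib.Helper12.M23Ext.Kernel
import Cfsg.Agent.Lib.Helper12.M23Ext.Equivar
import Cfsg.Agent.Lib.Helper12.M23Ext.Theta2
import Cfsg.Agent.Lib.Helper12.M23Ext.NonSplit

/-!
The presented extension of the group of Mathieu of degree `23` by the quotient of the space of the binary words of
length `23` by the code of Golay: it is finite, the map from the binary words is onto the kernel and equivariant, the
kernel has no complement (helper12).
-/

set_option autoImplicit false
set_option maxRecDepth 100000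

namespace Cfsg.Agent.Lib.Helper12.M23Ext.Main

open Cfsg Cfsg.Agent.Lib.helper4 Cfsg.Agent.Lib.Helper12.Golay Cfsg.Agent.Lib.Helper12.TC
  Cfsg.Agent.Lib.Helper12.TCG Cfsg.Agent.Lib.Helper12.M23Ext Cfsg.Agent.Lib.Helper12.M23Ext.EPres
  Cfsg.Agent.Lib.Helper12.M23Ext.ERel Cfsg.Agent.Lib.Helper12.M23Ext.Psi Cfsg.Agent.Lib.Helper12.M23Ext.Theta
  Cfsg.Agent.Lib.Helper12.M23Ext.Kernel

theorem finite_D : Finite ↥D := by
  have h : ((D : Subgroup Grp) : Set Grp) ⊆ Set.range theta0 := by
    intro d hd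
    obtain ⟨w, hw⟩ := theta0_surj d hd
    exact ⟨w, hw⟩
  exact ((Set.finite_range theta0).subset h).to_subtype

/-- the presented extension is finite -/
theorem finite_E : Finite Grp := by
  have h1 := psi.ker.index_mul_card
  rw [Subgroup.index_ker, range_psi, card_SporM23] at h1
  have hf : Finite ↥psi.ker := by rw [ker_eq]; exact finite_D
  apply Nat.finite_of_card_ne_zero
  rw [← h1]
  exact (Nat.mul_pos (by norm_num) Nat.card_pos).ne'

/-- the quotient by the kernel is the group of Mathieu -/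
noncomputable def phi : Grp ⧸ psi.ker ≃* ↥Cfsg.Spor.M23 :=
  (QuotientGroup.quotientKerEquivRange psi).trans (MulEquiv.subgroupCongr range_psi)

theorem phi_mk (g : Grp) : ((phi (QuotientGroup.mk g) : ↥Cfsg.Spor.M23) : Equiv.Perm GolayPt) = psi g := rfl

theorem theta0_mem_ker (w : GolayPt → ZMod 2) : theta0 w ∈ psi.ker := by
  rw [ker_eq]
  exact theta0_mem w

/-- the map from the binary words onto the kernel -/
noncomputable def theta : (GolayPt → ZMod 2) →+ Additive ↥psi.ker where
  toFun w := Additive.ofMul ⟨theta0 w, theta0_mem_ker w⟩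
  map_zero' := congrArg Additive.ofMul (Subtype.ext theta0_zero)
  map_add' a b := congrArg Additive.ofMul (Subtype.ext (theta0_add a b))

theorem theta_val (w : GolayPt → ZMod 2) : (((theta w).toMul : ↥psi.ker) : Grp) = theta0 w := rfl

theorem theta_surjective : Function.Surjective theta := by
  intro n
  obtain ⟨w, hw⟩ := theta0_surj (n.toMul : ↥psi.ker).val (by rw [← ker_eq]; exact (n.toMul : ↥psi.ker).2)
  refine ⟨w, ?_⟩
  apply Additive.toMul.injective
  exact Subtype.ext hw

theorem theta_eq_zero_iff (w : GolayPt → ZMod 2) :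
    theta w = 0 ↔ (w ∈ golayCode ∨ w + Pi.single none 1 ∈ golayCode) := by
  rw [← theta0_eq_one_iff]
  constructor
  · intro h
    have h1 := congrArg (fun n : Additive ↥psi.ker => ((n.toMul : ↥psi.ker) : Grp)) h
    exact h1
  · intro h
    apply Additive.toMul.injective
    exact Subtype.ext h

theorem theta_conj (g : Grp) (w : GolayPt → ZMod 2) :
    ((theta (w ∘ ⇑(((phi (QuotientGroup.mk g) : ↥Cfsg.Spor.M23) : Equiv.Perm GolayPt)⁻¹))).toMul : Grp)
      = g * ((theta w).toMul : Grp) * g⁻¹ := by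
  rw [phi_mk, theta_val, theta_val]
  exact Equivar.theta0_conj g w

theorem tbl_r1 : wtbl (1 :: (NonSplit.yw ++ [1])) = wtbl NonSplit.yw := by decide +kernel

theorem tbl_r2 : wtbl (NonSplit.yw ++ (1 :: NonSplit.yw)) = wtbl [1] := by decide +kernel

theorem yw_lt : ∀ s ∈ NonSplit.yw, s < 28 := by decide

theorem hr1 : v 1 * wprod v NonSplit.yw * v 1 * (wprod v NonSplit.yw)⁻¹ ∈ D := by
  rw [← ker_eq, MonoidHom.mem_ker, map_mul, map_mul, map_mul, map_inv, psi_letter 1 (by norm_num),
    psi_word _ yw_lt, mul_inv_eq_one]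
  have h : wprod fl (1 :: (NonSplit.yw ++ [1])) = wprod fl NonSplit.yw := by
    apply tblOf_injective
    rw [tblOf_wprod, tblOf_wprod, tbl_r1]
  rw [wprod_cons, wprod_append, wprod_cons, wprod_nil, mul_one, ← mul_assoc] at h
  exact h

theorem hr2 : wprod v NonSplit.yw * v 1 * wprod v NonSplit.yw * (v 1)⁻¹ ∈ D := by
  rw [← ker_eq, MonoidHom.mem_ker, map_mul, map_mul, map_mul, map_inv, psi_letter 1 (by norm_num),
    psi_word _ yw_lt, mul_inv_eq_one]
  have h : wprod fl (NonSplit.yw ++ (1 :: NonSplit.yw)) = wprod fl [1] := by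
    apply tblOf_injective
    rw [tblOf_wprod, tblOf_wprod, tbl_r2]
  rw [wprod_append, wprod_cons, wprod_cons, wprod_nil, mul_one, ← mul_assoc] at h
  exact h

/-- the kernel has no complement -/
theorem no_complement (H : Subgroup Grp) (h : H ⊓ psi.ker = ⊥) : H ⊔ psi.ker ≠ ⊤ := by
  rw [ker_eq] at h ⊢
  exact NonSplit.no_complement hr1 hr2 H h

end Cfsg.Agent.Lib.Helper12.M23Ext.Main
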