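import Cfsg.Agent.Lib.Helper12.M23Ext.EPres

/-!
The tables of the action of the letters on the `24` points (generated, helper12).
-/

set_option autoImplicit false

namespace Cfsg.Agent.Lib.Helper12.M23Ext.Psi

/-- the tables of the first five letters -/
def tsL : List (List ℕ) :=
  [[1, 0, 9, 6, 5, 4, 3, 7, 8, 2, 10, 22, 14, 13, 12, 15, 21, 17, 19, 18, 20, 16, 11, 23],
   [11, 1, 0, 9, 6, 5, 4, 3, 7, 8, 2, 10, 22, 14, 13, 12, 15, 21, 17, 19, 18, 20, 16, 23],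
   [2, 1, 10, 7, 6, 5, 4, 8, 9, 3, 11, 0, 15, 14, 13, 16, 22, 18, 20, 19, 21, 17, 12, 23],
   [0, 16, 9, 2, 18, 11, 4, 20, 13, 6, 22, 15, 8, 1, 17, 10, 3, 19, 12, 5, 21, 14, 7, 23],
   [0, 13, 3, 16, 6, 19, 9, 22, 12, 2, 15, 5, 18, 8, 21, 11, 1, 14, 4, 17, 7, 20, 10, 23]]

/-- the table of a letter -/
def ts (x : ℕ) : List ℕ := tsL.getD x (List.range 24)

end Cfsg.Agent.Lib.Helper12.M23Ext.Psi
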