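import Cfsg.Agent.Lib.helper4.OutM23
import Cfsg.Agent.Lib.helper4.M23Gen
import Cfsg.Agent.Lib.Helper12.M23Ext.PsiData
import Cfsg.Agent.Lib.Helper12.M23Ext.M23Pres

/-!
The homomorphisms of the presented extension and of the presented group of Mathieu onto the group of Mathieu of degree
`23` (helper12).
-/

set_option autoImplicit false
set_option maxRecDepth 100000

namespace Cfsg.Agent.Lib.Helper12.M23Ext.Psi

open Cfsg Cfsg.Agent.Lib.helper4 Cfsg.Agent.Lib.Helper12.Golay Cfsg.Agent.Lib.Helper12.TC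
  Cfsg.Agent.Lib.Helper12.TCG Cfsg.Agent.Lib.Helper12.M23Ext

/-- the table of a word: the composition of the tables of its letters -/
def wtbl (w : List ℕ) : List ℕ := w.foldr (fun s acc => compTbl (ts s) acc) (List.range 24)

theorem wtbl_nil : wtbl [] = List.range 24 := rfl

theorem wtbl_cons (s : ℕ) (w : List ℕ) : wtbl (s :: w) = compTbl (ts s) (wtbl w) := rfl

theorem ts_valid_lt : ∀ x < 5, ValidT (ts x) := by decide

theorem ts_ge {x : ℕ} (hx : 5 ≤ x) : ts x = List.range 24 := by
  unfold ts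
  exact List.getD_eq_default _ _ (by simpa [tsL] using hx)

theorem ts_valid (x : ℕ) : ValidT (ts x) := by
  by_cases hx : x < 5
  · exact ts_valid_lt x hx
  · rw [ts_ge (by omega)]
    decide

/-- the permutation of a letter -/
noncomputable def fl (s : ℕ) : Equiv.Perm GolayPt := fperm (ts s)

theorem tblOf_wprod (w : List ℕ) : tblOf (wprod fl w) = wtbl w := by
  induction w with
  | nil => rw [wprod_nil, tblOf_one, wtbl_nil]
  | cons s w ih =>
    rw [wprod_cons, tblOf_mul, ih, wtbl_cons]
    unfold fl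
    rw [tblOf_fperm (ts_valid s)]

theorem wprod_fl_eq_one {w : List ℕ} (h : wtbl w = List.range 24) : wprod fl w = 1 := by
  apply tblOf_injective
  rw [tblOf_wprod, h, tblOf_one]

theorem wprod_fl_eq_fperm {w L : List ℕ} (hv : ValidT L) (h : wtbl w = L) : wprod fl w = fperm L :=
  eq_fperm_of_tblOf hv (by rw [tblOf_wprod, h])

theorem hwE1 : ∀ b ∈ EPres.relsE, wtbl b = List.range 24 := by decide +kernel
theorem hwE2 : ∀ b ∈ EPres.pairsE, wtbl b = List.range 24 := by decide +kernel
theorem hwE3 : ∀ b ∈ EPres.dsqE, wtbl b = List.range 24 := by decide +kernel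
theorem hwE4 : ∀ b ∈ EPres.commE, wtbl b = List.range 24 := by decide +kernel
theorem hwE5 : ∀ b ∈ EPres.conjE, wtbl b = List.range 24 := by decide +kernel
theorem hwE6 : ∀ b ∈ EPres.golE, wtbl b = List.range 24 := by decide +kernel

theorem hwE : ∀ b ∈ EPres.baseL, wprod fl b = 1 := by
  intro b hb
  apply wprod_fl_eq_one
  unfold EPres.baseL at hb
  rcases List.mem_append.mp hb with h | hb
  · exact hwE1 b h
  rcases List.mem_append.mp hb with h | hb
  · exact hwE2 b h
  rcases List.mem_append.mp hb with h | hb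
  · exact hwE3 b h
  rcases List.mem_append.mp hb with h | hb
  · exact hwE4 b h
  rcases List.mem_append.mp hb with h | hb
  · exact hwE5 b h
  rcases List.mem_append.mp hb with h | hb
  · exact hwE6 b h
  · rw [List.mem_singleton.mp hb]
    rfl

theorem hwM : ∀ b ∈ M23Pres.baseL, wprod fl b = 1 := by
  intro b hb
  apply wprod_fl_eq_one
  revert b
  decide +kernel

theorem exists_psi : ∃ ρ : EPres.Grp →* Equiv.Perm GolayPt, ∀ x < 28, ρ (EPres.v x) = fl x :=
  EPres.hliftG fl hwE

/-- the action of the extension on the `24` points -/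
noncomputable def psi : EPres.Grp →* Equiv.Perm GolayPt := exists_psi.choose

theorem psi_letter : ∀ x < 28, psi (EPres.v x) = fl x := exists_psi.choose_spec

theorem exists_psiM : ∃ ρ : M23Pres.Grp →* Equiv.Perm GolayPt, ∀ x < 5, ρ (M23Pres.v x) = fl x :=
  M23Pres.hliftG fl hwM

/-- the action of the presented group of Mathieu on the `24` points -/
noncomputable def psiM : M23Pres.Grp →* Equiv.Perm GolayPt := exists_psiM.choose

theorem psiM_letter : ∀ x < 5, psiM (M23Pres.v x) = fl x := exists_psiM.choose_spec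

theorem wprod_congr_lt {K : Type*} [Group K] (f g : ℕ → K) (n : ℕ) (h : ∀ x < n, f x = g x) (w : List ℕ)
    (hw : ∀ s ∈ w, s < n) : wprod f w = wprod g w := by
  induction w with
  | nil => rfl
  | cons s w ih =>
    rw [wprod_cons, wprod_cons, h s (hw s List.mem_cons_self),
      ih (fun t ht => hw t (List.mem_cons_of_mem _ ht))]

theorem psi_word (w : List ℕ) (hw : ∀ s ∈ w, s < 28) : psi (wprod EPres.v w) = wprod fl w := by
  rw [← WPres.wprod_map psi EPres.v w]
  exact wprod_congr_lt _ _ 28 psi_letter w hw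

theorem psiM_word (w : List ℕ) (hw : ∀ s ∈ w, s < 5) : psiM (wprod M23Pres.v w) = wprod fl w := by
  rw [← WPres.wprod_map psiM M23Pres.v w]
  exact wprod_congr_lt _ _ 5 psiM_letter w hw

theorem fl_ge {x : ℕ} (hx : 5 ≤ x) : fl x = 1 := by
  unfold fl
  rw [ts_ge hx]
  apply tblOf_injective
  rw [tblOf_fperm (by decide), tblOf_one]

theorem fl_mem_M23 (x : ℕ) : fl x ∈ Cfsg.Spor.M23 := by
  by_cases hx : x < 5
  · have h : ∀ x < 5, okK (ts x) = true ∧ (ts x).getD 23 0 = 23 := by decide +kernel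
    exact mem_SporM23 (h x hx).1 (h x hx).2
  · rw [fl_ge (by omega)]
    exact Subgroup.one_mem _

theorem psi_mem_M23 (γ : EPres.Grp) : psi γ ∈ Cfsg.Spor.M23 := by
  refine Subgroup.closure_induction (p := fun γ _ => psi γ ∈ Cfsg.Spor.M23) ?_ ?_ ?_ ?_ (EPres.hgen γ)
  · rintro y ⟨x, hx, rfl⟩
    rw [psi_letter x hx]
    exact fl_mem_M23 x
  · rw [map_one]; exact Subgroup.one_mem _
  · intro x y _ _ hx hy
    rw [map_mul]; exact Subgroup.mul_mem _ hx hy
  · intro x _ hx
    rw [map_inv]; exact Subgroup.inv_mem _ hx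

/-- the word of the translation `t ↦ t + 1` -/
def wA : List ℕ := [2, 0]
/-- the word of the multiplication `t ↦ 2 t` -/
def wU : List ℕ := [3, 3, 3]
/-- the word of the third generator -/
def wC : List ℕ := [0, 1, 1, 0, 1, 0, 1, 1, 0, 1, 0, 2, 0, 1, 1, 0, 2, 0, 1, 0, 1, 0, 2, 0, 1, 0, 1, 0, 1, 1]

theorem wtbl_wA : wtbl wA = tA24 := by decide +kernel
theorem wtbl_wU : wtbl wU = tU24 := by decide +kernel
theorem wtbl_wC : wtbl wC = tC24 := by decide +kernel

theorem valid_tA : ValidT tA24 := by decide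
theorem valid_tU : ValidT tU24 := by decide
theorem valid_tC : ValidT tC24 := by decide

/-- the three generators of the group of Mathieu are images of words -/
theorem gens_eq : wprod fl wA = fperm tA24 ∧ wprod fl wU = fperm tU24 ∧ wprod fl wC = fperm tC24 :=
  ⟨wprod_fl_eq_fperm valid_tA wtbl_wA, wprod_fl_eq_fperm valid_tU wtbl_wU,
    wprod_fl_eq_fperm valid_tC wtbl_wC⟩

theorem M23_le_range_psi : Cfsg.Spor.M23 ≤ psi.range := by
  refine le_trans M23_le_H23 ?_
  unfold H23
  rw [Subgroup.closure_le]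
  rintro g (rfl | rfl | rfl)
  · exact ⟨wprod EPres.v wA, by rw [psi_word wA (by decide), gens_eq.1]⟩
  · exact ⟨wprod EPres.v wU, by rw [psi_word wU (by decide), gens_eq.2.1]⟩
  · exact ⟨wprod EPres.v wC, by rw [psi_word wC (by decide), gens_eq.2.2]⟩

theorem M23_le_range_psiM : Cfsg.Spor.M23 ≤ psiM.range := by
  refine le_trans M23_le_H23 ?_
  unfold H23
  rw [Subgroup.closure_le]
  rintro g (rfl | rfl | rfl)
  · exact ⟨wprod M23Pres.v wA, by rw [psiM_word wA (by decide), gens_eq.1]⟩
  · exact ⟨wprod M23Pres.v wU, by rw [psiM_word wU (by decide), gens_eq.2.1]⟩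
  · exact ⟨wprod M23Pres.v wC, by rw [psiM_word wC (by decide), gens_eq.2.2]⟩

theorem range_psi : psi.range = Cfsg.Spor.M23 := by
  apply le_antisymm
  · rintro _ ⟨γ, rfl⟩
    exact psi_mem_M23 γ
  · exact M23_le_range_psi

end Cfsg.Agent.Lib.Helper12.M23Ext.Psi
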