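import Cfsg.Agent.Lib.Helper12.M23Ext.ERel
import Cfsg.Agent.Lib.Helper12.Golay.Code

/-!
The map from the binary words of length `24` to the subgroup generated by the involutions of the presented extension
(helper12).
-/

set_option autoImplicit false
set_option maxRecDepth 100000

namespace Cfsg.Agent.Lib.Helper12.M23Ext.Theta

open Cfsg Cfsg.Agent.Lib.Helper12.Golay Cfsg.Agent.Lib.Helper12.TC Cfsg.Agent.Lib.Helper12.TCG
  Cfsg.Agent.Lib.Helper12.M23Ext Cfsg.Agent.Lib.Helper12.M23Ext.EPres Cfsg.Agent.Lib.Helper12.M23Ext.ERel

/-- the involution of a point, trivial for the extra point -/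
noncomputable def dpt : GolayPt → Grp
  | none => 1
  | some t => v (5 + t.val)

theorem dpt_mem (p : GolayPt) : dpt p ∈ D := by
  cases p with
  | none => exact D.one_mem
  | some t => exact d_mem (ZMod.val_lt t)

theorem dpt_sq (p : GolayPt) : dpt p * dpt p = 1 := by
  cases p with
  | none => exact mul_one 1
  | some t => exact d_sq (ZMod.val_lt t)

theorem dpt_comm (p q : GolayPt) : Commute (dpt p) (dpt q) := by
  cases p with
  | none => exact Commute.one_left _
  | some s =>
    cases q with
    | none => exact Commute.one_right _
    | some t => exact d_comm (ZMod.val_lt s) (ZMod.val_lt t)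

theorem dpt_pt {i : ℕ} (hi : i < 23) : dpt (pt i) = v (5 + i) := by
  unfold pt
  rw [if_pos hi]
  show v (5 + ((i : ℕ) : ZMod 23).val) = v (5 + i)
  rw [ZMod.val_natCast, Nat.mod_eq_of_lt hi]

theorem dpt_pt_top : dpt (pt 23) = 1 := rfl

/-- the power of an involution by a residue modulo `2` -/
noncomputable def dpow (d : Grp) (a : ZMod 2) : Grp := if a = 0 then 1 else d

theorem dpow_add {d : Grp} (hd : d * d = 1) (a b : ZMod 2) : dpow d (a + b) = dpow d a * dpow d b := by
  rcases zmod2_cases a with rfl | rfl <;> rcases zmod2_cases b with rfl | rfl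
  · simp [dpow]
  · simp [dpow]
  · simp [dpow]
  · have h : (1 : ZMod 2) + 1 = 0 := by decide
    rw [h]
    simp [dpow, hd]

theorem dpow_mem {d : Grp} (hd : d ∈ D) (a : ZMod 2) : dpow d a ∈ D := by
  unfold dpow
  split_ifs
  · exact D.one_mem
  · exact hd

theorem dpow_comm {d e : Grp} (h : Commute d e) (a b : ZMod 2) : Commute (dpow d a) (dpow e b) := by
  unfold dpow
  split_ifs
  · exact Commute.one_left _
  · exact Commute.one_left _
  · exact Commute.one_right _
  · exact h

/-- the list of the points -/
def pts : List GolayPt := (List.range 24).map pt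

theorem mem_pts (p : GolayPt) : p ∈ pts :=
  List.mem_map.mpr ⟨idx p, List.mem_range.mpr (idx_lt p), pt_idx p⟩

theorem pts_nodup : pts.Nodup := by decide

/-- the product of the involutions of the support of a word -/
noncomputable def theta0 (w : GolayPt → ZMod 2) : Grp := (pts.map fun p => dpow (dpt p) (w p)).prod

theorem theta0_mem (w : GolayPt → ZMod 2) : theta0 w ∈ D := by
  apply Subgroup.list_prod_mem
  intro x hx
  obtain ⟨p, _, rfl⟩ := List.mem_map.mp hx
  exact dpow_mem (dpt_mem p) _

/-- the product of products of commuting elements -/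
theorem prod_map_mul_of_commute {ι : Type*} (l : List ι) (f g : ι → Grp)
    (h : ∀ s ∈ l, ∀ t ∈ l, Commute (g s) (f t)) :
    (l.map fun t => f t * g t).prod = (l.map f).prod * (l.map g).prod := by
  induction l with
  | nil => simp
  | cons a l ih =>
    rw [List.map_cons, List.map_cons, List.map_cons, List.prod_cons, List.prod_cons, List.prod_cons,
      ih (fun s hs t ht => h s (List.mem_cons_of_mem _ hs) t (List.mem_cons_of_mem _ ht))]
    have hc : Commute (g a) (l.map f).prod := by
      apply Commute.list_prod_right
      intro x hx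
      obtain ⟨t, ht, rfl⟩ := List.mem_map.mp hx
      exact h a List.mem_cons_self t (List.mem_cons_of_mem _ ht)
    calc f a * g a * ((l.map f).prod * (l.map g).prod)
        = f a * (g a * (l.map f).prod) * (l.map g).prod := by simp only [mul_assoc]
      _ = f a * ((l.map f).prod * g a) * (l.map g).prod := by rw [hc.eq]
      _ = f a * (l.map f).prod * (g a * (l.map g).prod) := by simp only [mul_assoc]

theorem theta0_add (w w' : GolayPt → ZMod 2) : theta0 (w + w') = theta0 w * theta0 w' := by
  unfold theta0
  rw [← prod_map_mul_of_commute pts _ _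
    (fun s _ t _ => dpow_comm (dpt_comm s t) _ _)]
  congr 1
  apply List.map_congr_left
  intro p _
  rw [Pi.add_apply, dpow_add (dpt_sq p)]

theorem theta0_zero : theta0 0 = 1 := by
  unfold theta0
  apply List.prod_eq_one
  intro x hx
  obtain ⟨p, _, rfl⟩ := List.mem_map.mp hx
  simp [dpow]

/-- the letters of the involutions of the bits of a mask -/
def dletters (m : ℕ) : List ℕ := ((List.range 23).filter fun t => m.testBit t).map fun t => 5 + t

theorem prod_map_ite (l : List ℕ) (c : ℕ → Bool) (f : ℕ → Grp) :
    (l.map fun i => if c i = true then f i else 1).prod = ((l.filter c).map f).prod := by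
  induction l with
  | nil => rfl
  | cons a l ih =>
    rw [List.map_cons, List.prod_cons, ih, List.filter_cons]
    cases h : c a
    · simp
    · simp

/-- the product for the word of a mask -/
theorem theta0_wd (m : ℕ) : theta0 (wd m) = wprod v (dletters m) := by
  unfold theta0 pts
  rw [List.map_map, List.range_succ, List.map_append, List.prod_append]
  have h1 : (List.map ((fun p => dpow (dpt p) (wd m p)) ∘ pt) [23]).prod = 1 := by
    simp [dpt_pt_top, dpow]
  rw [h1, mul_one]
  have h2 : List.map ((fun p => dpow (dpt p) (wd m p)) ∘ pt) (List.range 23) =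
      List.map (fun i => if m.testBit i = true then v (5 + i) else 1) (List.range 23) := by
    apply List.map_congr_left
    intro i hi
    have hi' : i < 23 := List.mem_range.mp hi
    show dpow (dpt (pt i)) (wd m (pt i)) = _
    rw [dpt_pt hi']
    unfold wd dpow
    rw [idx_pt (by omega)]
    cases m.testBit i <;> simp
  rw [h2, prod_map_ite]
  unfold dletters wprod
  rw [List.map_map]
  rfl

end Cfsg.Agent.Lib.Helper12.M23Ext.Theta
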